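import Cfsg.Agent.SchmidtCover.Pairing

/-!
The bound for a central extension of the field carrying an automorphism over multiplication by `ω`.
-/

set_option autoImplicit false
set_option linter.style.haveILetI false

open scoped commutatorElement IsMulCommutative

namespace CfsgLib.SchmidtCover.FData

variable {p q a : ℕ} {K : Type*} [Field K] [Finite K] {ω : K}

theorem commutator_card_le (D : FData p q a K ω) {W : Type*} [Group W] [Finite W] (π : W →* Multiplicative K)
    (hπ : Function.Surjective π) (hker : π.ker ≤ Subgroup.center W) (σ : MulAut W)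
    (hσ : ∀ w, (π (σ w)).toAdd = ω * (π w).toAdd) (hfix : ∀ k ∈ π.ker, σ k = k) :
    Nat.card (commutator W) ≤ p ^ half a := by
  classical
  have hmem : ∀ u v : W, ⁅u, v⁆ ∈ π.ker := fun u v => by
    rw [MonoidHom.mem_ker, map_commutatorElement, commutatorElement_eq_one_iff_mul_comm, mul_comm]
  have hc : ∀ u v : W, ⁅u, v⁆ ∈ Subgroup.center W := fun u v => hker (hmem u v)
  have hz : ∀ {z : W}, z ∈ Subgroup.center W → ∀ u, u * z = z * u := fun {z} h => Subgroup.mem_center_iff.1 h
  have hmul : ∀ u u' v : W, ⁅u * u', v⁆ = ⁅u, v⁆ * ⁅u', v⁆ := fun u u' v => by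
    calc ⁅u * u', v⁆ = (u * ⁅u', v⁆ * u⁻¹) * ⁅u, v⁆ := by simp only [commutatorElement_def]; group
      _ = ⁅u, v⁆ * ⁅u', v⁆ := by rw [hz (hc u' v) u, mul_inv_cancel_right, hz (hc u' v) ⁅u, v⁆]
  have hone : ∀ k ∈ π.ker, ∀ v : W, ⁅k, v⁆ = 1 := fun k hk v =>
    commutatorElement_eq_one_iff_mul_comm.2 (hz (hker hk) v).symm
  have hwd : ∀ u u' v : W, π u = π u' → ⁅u, v⁆ = ⁅u', v⁆ := fun u u' v h => by
    have hk : u * u'⁻¹ ∈ π.ker := by rw [MonoidHom.mem_ker, map_mul, map_inv, h, mul_inv_cancel]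
    calc ⁅u, v⁆ = ⁅(u * u'⁻¹) * u', v⁆ := by rw [inv_mul_cancel_right]
      _ = ⁅u', v⁆ := by rw [hmul, hone _ hk, one_mul]
  have hwd' : ∀ u v v' : W, π v = π v' → ⁅u, v⁆ = ⁅u, v'⁆ := fun u v v' h => by
    rw [← commutatorElement_inv v u, ← commutatorElement_inv v' u, hwd v v' u h]
  choose s hs using fun x : K => hπ (Multiplicative.ofAdd x)
  let b : K → K → Additive (Subgroup.center W) := fun x y => Additive.ofMul ⟨⁅s x, s y⁆, hc _ _⟩
  have hb : ∀ x y (u v : W), (π u).toAdd = x → (π v).toAdd = y → ((Additive.toMul (b x y) : Subgroup.center W) : W) = ⁅u, v⁆ := by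
    intro x y u v hu hv
    have h1 : π (s x) = π u := by rw [hs, ← hu]; rfl
    have h2 : π (s y) = π v := by rw [hs, ← hv]; rfl
    show ⁅s x, s y⁆ = ⁅u, v⁆
    rw [hwd _ _ _ h1, hwd' _ _ _ h2]
  have hbl : ∀ x x' y, b (x + x') y = b x y + b x' y := fun x x' y => by
    apply Additive.toMul.injective
    apply Subtype.ext
    rw [hb _ _ (s x * s x') (s y) (by rw [map_mul, hs, hs]; rfl) (by rw [hs]; rfl)]
    exact hmul _ _ _
  have hsw : ∀ x y, b x y = -b y x := fun x y => by
    apply Additive.toMul.injective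
    apply Subtype.ext
    exact (commutatorElement_inv (s y) (s x)).symm
  have hbr : ∀ x y y', b x (y + y') = b x y + b x y' := fun x y y' => by
    rw [hsw, hbl, neg_add, ← hsw, ← hsw]
  let B : K →+ K →+ Additive (Subgroup.center W) := AddMonoidHom.mk' (fun x => AddMonoidHom.mk' (b x) (hbr x)) fun x x' => by
    ext y : 1
    exact hbl x x' y
  have hinv : ∀ x y, B (ω * x) (ω * y) = B x y := fun x y => by
    apply Additive.toMul.injective
    apply Subtype.ext
    show ((Additive.toMul (b (ω * x) (ω * y)) : Subgroup.center W) : W) = ⁅s x, s y⁆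
    rw [hb _ _ (σ (s x)) (σ (s y)) (by rw [hσ, hs]; rfl) (by rw [hσ, hs]; rfl), ← map_commutatorElement,
      hfix _ (hmem _ _)]
  have halt : ∀ x, B x x = 0 := fun x => by
    apply Additive.toMul.injective
    apply Subtype.ext
    show ⁅s x, s x⁆ = 1
    exact commutatorElement_self _
  obtain ⟨β, hβ, hcard⟩ := D.pairing_bound B hinv halt
  refine le_trans ?_ hcard
  let T : Subgroup W := (AddSubgroup.toSubgroup' β.range).map (Subgroup.center W).subtype
  have hle : commutator W ≤ T := by
    rw [commutator_eq_closure, Subgroup.closure_le]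
    rintro _ ⟨u, v, rfl⟩
    exact ⟨Additive.toMul (B (π u).toAdd (π v).toAdd), hβ _ _, hb _ _ u v rfl rfl⟩
  refine (Nat.card_le_card_of_injective _ (Subgroup.inclusion_injective hle)).trans (le_of_eq ?_)
  rw [Subgroup.card_map_of_injective (Subgroup.center W).subtype_injective]
  exact Nat.card_congr (Equiv.subtypeEquiv Additive.ofMul fun _ => Iff.rfl)

/-- A small invariant subgroup over the whole field. -/
theorem exists_small (D : FData p q a K ω) {W : Type*} [Group W] [Finite W] (π : W →* Multiplicative K)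
    (hπ : Function.Surjective π) (hker : π.ker ≤ Subgroup.center W) (σ : MulAut W)
    (hσ : ∀ w, (π (σ w)).toAdd = ω * (π w).toAdd) (hfix : ∀ k ∈ π.ker, σ k = k) :
    ∃ S : Subgroup W, (∀ s ∈ S, σ s ∈ S) ∧ S.map π = ⊤ ∧ Nat.card S ≤ p ^ (a + half a) := by
  classical
  let δ : W →* Abelianization W := Abelianization.of.comp σ.toMonoidHom / Abelianization.of
  have hδ : ∀ w, δ w = Abelianization.of (σ w * w⁻¹) := fun w => by
    rw [map_mul, map_inv, ← div_eq_mul_inv]; rfl
  set S := δ.range.comap (Abelianization.of : W →* Abelianization W) with hS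
  have hsmem : ∀ w, σ w * w⁻¹ ∈ S := fun w => ⟨w, hδ w⟩
  have hab : ∀ u v : W, Abelianization.of u = Abelianization.of v → π u = π v := fun u v h => by
    have := congrArg (Abelianization.lift π) h
    rwa [Abelianization.lift_apply_of, Abelianization.lift_apply_of] at this
  have hkerS : S ⊓ π.ker ≤ commutator W := by
    rintro x ⟨⟨w, hw⟩, hx⟩
    rw [hδ] at hw
    have h := congrArg Multiplicative.toAdd (hab _ _ hw)
    rw [MonoidHom.mem_ker.1 hx, map_mul, map_inv, toAdd_mul, toAdd_inv, hσ, toAdd_one, add_neg_eq_zero] at h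
    have hw0 : (π w).toAdd = 0 := by
      by_contra hne
      exact D.ne_one ((mul_eq_right₀ hne).1 h)
    have hwk : w ∈ π.ker := MonoidHom.mem_ker.2 (Multiplicative.toAdd.injective hw0)
    rw [hfix w hwk, mul_inv_cancel, map_one] at hw
    rw [← Abelianization.ker_of]
    exact MonoidHom.mem_ker.2 hw.symm
  refine ⟨S, fun x hx => ?_, ?_, ?_⟩
  · obtain ⟨w, hw⟩ := hx
    refine ⟨σ w, ?_⟩
    have h := congrArg (Abelianization.map σ.toMonoidHom) (hδ w ▸ hw)
    rw [Abelianization.map_of, Abelianization.map_of] at h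
    rw [hδ]
    simpa [map_mul] using h
  · refine eq_top_iff.2 fun x _ => ?_
    obtain ⟨w, hw⟩ := hπ (Multiplicative.ofAdd ((ω - 1)⁻¹ * x.toAdd))
    refine ⟨σ w * w⁻¹, hsmem w, Multiplicative.toAdd.injective ?_⟩
    rw [map_mul, map_inv, toAdd_mul, toAdd_inv, hσ, hw, toAdd_ofAdd]
    have : ω - 1 ≠ 0 := sub_ne_zero.2 D.ne_one
    field_simp
    ring
  · let f := π.comp S.subtype
    have h1 : Nat.card f.ker ≤ p ^ half a := by
      refine le_trans ?_ (D.commutator_card_le π hπ hker σ hσ hfix)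
      refine Nat.card_le_card_of_injective (fun s : f.ker => (⟨((s : S) : W), hkerS ⟨(s : S).2, s.2⟩⟩ : commutator W)) ?_
      intro s t h
      exact Subtype.ext (Subtype.ext (congrArg Subtype.val h :))
    have h2 : Nat.card f.range ≤ p ^ a := by
      rw [← D.card, ← Nat.card_congr Multiplicative.toAdd]
      exact Subgroup.card_le_card_group _
    rw [← f.ker.card_mul_index, Subgroup.index_ker, pow_add, mul_comm (p ^ a)]
    exact Nat.mul_le_mul h1 h2

end CfsgLib.SchmidtCover.FData
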