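import Cfsg.Agent.SchmidtCover.Field
import Cfsg.Agent.S0132
import Cfsg.Agent.CoprimeAction.Frattini
import Cfsg.Agent.Hall.Schmidt
import Cfsg.Agent.ZJ.Fpf

/-!
The structure of a minimal non-`p`-nilpotent group of order `p ^ t * q ^ r`, read in the field.
-/

set_option autoImplicit false
set_option linter.style.haveILetI false

open scoped commutatorElement IsMulCommutative Pointwise

namespace CfsgLib.SchmidtCover

/-- What is needed about the group. -/
structure XData {X : Type*} [Group X] {p : ℕ} (P : Sylow p X) (c : X) (q r : ℕ) : Prop where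
  normal : (P : Subgroup X).Normal
  ord : orderOf c = q ^ r
  sup : (P : Subgroup X) ⊔ Subgroup.zpowers c = ⊤
  meet : ∀ x ∈ (P : Subgroup X), x ∈ Subgroup.zpowers c → x = 1
  act : ∃ y ∈ (P : Subgroup X), c * y ≠ y * c
  pow_q : ∀ y ∈ (P : Subgroup X), c ^ q * y = y * c ^ q
  small : ∀ B : Subgroup X, B ≤ P → (∀ b ∈ B, c * b * c⁻¹ ∈ B) → B ≠ P → ∀ b ∈ B, c * b = b * c

theorem exists_xdata {X : Type*} [Group X] [Finite X] {p q r t : ℕ} [hp : Fact p.Prime] [hq : Fact q.Prime]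
    (hne : p ≠ q) (hr : 1 ≤ r) (h1 : ¬ Cfsg.HasNormalPComplement p X)
    (h2 : ∀ L : Subgroup X, L ≠ ⊤ → Cfsg.HasNormalPComplement p ↥L) (hcard : Nat.card X = p ^ t * q ^ r)
    (P : Sylow p X) : ∃ c : X, XData P c q r := by
  obtain ⟨hnil, hnn, hnorm⟩ := Cfsg.Agent.S0132.result h1 h2
  haveI hPn := hnorm P
  obtain ⟨Q⟩ : Nonempty (Sylow q X) := inferInstance
  have hcop : (p ^ t).Coprime (q ^ r) := Nat.Coprime.pow _ _ ((Nat.coprime_primes hp.out hq.out).2 hne)
  have hP : Nat.card (P : Subgroup X) = p ^ t := by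
    rw [P.card_eq_multiplicity, hcard, Nat.factorization_mul (pow_ne_zero _ hp.out.ne_zero) (pow_ne_zero _ hq.out.ne_zero),
      Finsupp.add_apply, hp.out.factorization_pow, hq.out.factorization_pow, Finsupp.single_eq_same,
      Finsupp.single_eq_of_ne hne, add_zero]
  have hQ : Nat.card (Q : Subgroup X) = q ^ r := by
    rw [Q.card_eq_multiplicity, hcard, Nat.factorization_mul (pow_ne_zero _ hp.out.ne_zero) (pow_ne_zero _ hq.out.ne_zero),
      Finsupp.add_apply, hp.out.factorization_pow, hq.out.factorization_pow, Finsupp.single_eq_same,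
      Finsupp.single_eq_of_ne hne.symm, zero_add]
  have hmeet : ∀ x ∈ (P : Subgroup X), x ∈ (Q : Subgroup X) → x = 1 := fun x hx hx' => by
    have : x ∈ (P : Subgroup X) ⊓ Q := ⟨hx, hx'⟩
    rwa [Subgroup.inf_eq_bot_of_coprime (by rw [hP, hQ]; exact hcop), Subgroup.mem_bot] at this
  have hPQ : (P : Subgroup X) ⊔ Q = ⊤ := by
    rw [← Subgroup.card_eq_iff_eq_top, hcard]
    refine Nat.dvd_antisymm (hcard ▸ Subgroup.card_subgroup_dvd_card _) (hcop.mul_dvd_of_dvd_of_dvd ?_ ?_)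
    · exact hP ▸ Subgroup.card_dvd_of_le le_sup_left
    · exact hQ ▸ Subgroup.card_dvd_of_le le_sup_right
  have hcomm : ∀ B Y : Subgroup X, B ⊔ Y ≠ ⊤ → IsPGroup p B → IsPGroup q Y → ∀ y ∈ Y, ∀ b ∈ B, y * b = b * y := by
    intro B Y hpr hB hY y hy b hb
    haveI := hnil _ hpr
    exact CfsgLib.Hall.commute_of_nilpotent_le (B ⊔ Y) hne.symm le_sup_right le_sup_left hY hB y hy b hb
  obtain ⟨c, hc, hact⟩ : ∃ c ∈ (Q : Subgroup X), ∃ y ∈ (P : Subgroup X), c * y ≠ y * c := by
    by_contra h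
    push Not at h
    apply hnn
    haveI : Group.IsNilpotent (P : Subgroup X) := P.2.isNilpotent
    haveI : Group.IsNilpotent (Q : Subgroup X) := Q.2.isNilpotent
    let f : ↥(Q : Subgroup X) × ↥(P : Subgroup X) →* X :=
      MonoidHom.noncommCoprod (Q : Subgroup X).subtype (P : Subgroup X).subtype fun u v => h u u.2 v v.2
    refine Group.nilpotent_of_surjective f fun x => ?_
    obtain ⟨v, hv, u, hu, e⟩ := Subgroup.mem_sup_of_normal_left.1 (hPQ.ge (Subgroup.mem_top x))
    exact ⟨(⟨u, hu⟩, ⟨v, hv⟩), by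
      show (u : X) * v = x
      rw [h u hu v hv, e]⟩
  have hcQ : Subgroup.zpowers c ≤ (Q : Subgroup X) := Subgroup.zpowers_le.2 hc
  have hsup : (P : Subgroup X) ⊔ Subgroup.zpowers c = ⊤ := by
    by_contra hpr
    obtain ⟨y, hy, hne'⟩ := hact
    exact hne' (hcomm P _ hpr P.2 (Q.2.to_le hcQ) c (Subgroup.mem_zpowers c) y hy)
  have hQc : (Q : Subgroup X) ≤ Subgroup.zpowers c := by
    intro x hx
    obtain ⟨v, hv, u, hu, e⟩ := Subgroup.mem_sup_of_normal_left.1 (hsup.ge (Subgroup.mem_top x))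
    have hvQ : v ∈ (Q : Subgroup X) := by
      rw [show v = x * u⁻¹ by rw [← e, mul_inv_cancel_right]]
      exact mul_mem hx (inv_mem (hcQ hu))
    rw [← e, hmeet v hv hvQ, one_mul]; exact hu
  have hord : orderOf c = q ^ r := by
    rw [← Nat.card_zpowers, le_antisymm hcQ hQc, hQ]
  have hmeet' : ∀ x ∈ (P : Subgroup X), x ∈ Subgroup.zpowers c → x = 1 := fun x hx hx' => hmeet x hx (hcQ hx')
  refine ⟨c, hPn, hord, hsup, hmeet', hact, fun y hy => ?_, fun B hB hinv hBne b hb => ?_⟩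
  · refine hcomm P (Subgroup.zpowers (c ^ q)) (fun htop => ?_) P.2
      (Q.2.to_le (Subgroup.zpowers_le.2 (pow_mem hc q))) (c ^ q) (Subgroup.mem_zpowers _) y hy
    obtain ⟨v, hv, u, hu, e⟩ := Subgroup.mem_sup_of_normal_left.1 (htop.ge (Subgroup.mem_top c))
    have hle : Subgroup.zpowers (c ^ q) ≤ Subgroup.zpowers c :=
      Subgroup.zpowers_le.2 (pow_mem (Subgroup.mem_zpowers c) q)
    have hu' : u ∈ Subgroup.zpowers c := hle hu
    have hv1 : v = 1 := hmeet' v hv (by
      rw [show v = c * u⁻¹ by rw [← e, mul_inv_cancel_right]]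
      exact mul_mem (Subgroup.mem_zpowers c) (inv_mem hu'))
    have hd : orderOf c ∣ orderOf (c ^ q) := by
      rw [show c = u by rw [← e, hv1, one_mul]] at hu ⊢
      exact orderOf_dvd_of_mem_zpowers hu
    rw [orderOf_pow, hord, Nat.gcd_eq_right (dvd_pow_self q (by omega : r ≠ 0))] at hd
    have := Nat.le_of_dvd (Nat.div_pos (Nat.le_of_dvd (pow_pos hq.out.pos _) (dvd_pow_self q (by omega))) hq.out.pos) hd
    exact absurd this (not_le.2 (Nat.div_lt_self (pow_pos hq.out.pos _) hq.out.one_lt))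
  · have hcN : Subgroup.zpowers c ≤ Subgroup.normalizer (B : Set X) :=
      Subgroup.zpowers_le.2 (Subgroup.mem_normalizer_fintype hinv)
    refine hcomm B (Subgroup.zpowers c) (fun ht => hBne (le_antisymm hB fun x hx => ?_)) (P.2.to_le hB)
      (Q.2.to_le hcQ) c (Subgroup.mem_zpowers c) b hb
    have hx' : x ∈ ((Subgroup.zpowers c : Set X) * (B : Set X)) := by
      rw [← Subgroup.coe_mul_of_left_le_normalizer_right _ _ hcN, sup_comm, ht]; trivial
    obtain ⟨u, hu, v, hv, rfl⟩ := hx'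
    have h1 : u ∈ (P : Subgroup X) := by simpa using mul_mem hx (inv_mem (hB hv))
    simpa [hmeet' u h1 hu] using hv

/-- A coprime twist by a fixed element is trivial. -/
theorem twist {X : Type*} [Group X] {p : ℕ} {P : Sylow p X} {c : X} {q r : ℕ} [hp : Fact p.Prime]
    [hq : Fact q.Prime] (hne : p ≠ q) (hX : XData P c q r) {y : X} (hy : y ∈ (P : Subgroup X))
    (h : c * (y⁻¹ * (c * y * c⁻¹)) = (y⁻¹ * (c * y * c⁻¹)) * c) : c * y = y * c := by
  set e := y⁻¹ * (c * y * c⁻¹) with he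
  have hiter : ∀ i : ℕ, c ^ i * y * (c ^ i)⁻¹ = y * e ^ i := by
    intro i
    induction i with
    | zero => simp
    | succ i ih =>
      have h2 : Commute c (e ^ i) := Commute.pow_right h i
      have h3 : c ^ (i + 1) * y * (c ^ (i + 1))⁻¹ = c * (c ^ i * y * (c ^ i)⁻¹) * c⁻¹ := by
        rw [pow_succ']; group
      rw [h3, ih, ← mul_assoc c y, mul_assoc (c * y), ← h2.inv_left.eq, pow_succ' e, ← mul_assoc y, he]
      group
  have h1 : e ^ orderOf c = 1 := by
    have := hiter (orderOf c)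
    rw [pow_orderOf_eq_one] at this
    simpa using this
  have heP : e ∈ (P : Subgroup X) := mul_mem (inv_mem hy) (hX.normal.conj_mem y hy c)
  obtain ⟨i, hi⟩ := IsPGroup.iff_orderOf.1 P.2 ⟨e, heP⟩
  rw [Subgroup.orderOf_mk] at hi
  have : orderOf e = 1 := Nat.eq_one_of_dvd_coprimes
    ((Nat.Coprime.pow _ _ ((Nat.coprime_primes hq.out hp.out).2 hne.symm)) : (q ^ r).Coprime (p ^ i))
    (hX.ord ▸ orderOf_dvd_of_pow_eq_one h1) (by rw [hi])
  rw [orderOf_eq_one_iff, he, inv_mul_eq_one] at this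
  exact mul_inv_eq_iff_eq_mul.1 this.symm

/-- The Frattini subgroup of the normal Sylow subgroup is central in the group. -/
theorem frattini_central {X : Type*} [Group X] [Finite X] {p : ℕ} {P : Sylow p X} {c : X} {q r : ℕ}
    [hp : Fact p.Prime] [hq : Fact q.Prime] (hne : p ≠ q) (hX : XData P c q r) :
    ∀ k : ↥(P : Subgroup X), k ∈ frattini ↥(P : Subgroup X) → (k : X) ∈ Subgroup.center X := by
  haveI := hX.normal
  set A := (P : Subgroup X) with hA
  set Φ := (frattini A).map A.subtype with hΦ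
  have hΦn : Φ.Normal := ConjAct.normal_of_characteristic_of_normal
  have hΦA : Φ ≤ A := Subgroup.map_subtype_le _
  have hΦne : Φ ≠ A := by
    intro h
    have h1 : frattini A = ⊤ := eq_top_iff.2 fun y _ => by
      obtain ⟨y', hy', hye⟩ := (h.symm ▸ y.2 : (y : X) ∈ Φ)
      rwa [show y' = y from Subtype.ext hye] at hy'
    have h2 : (⊥ : Subgroup A) = ⊤ := frattini_nongenerating (by rw [h1, bot_sup_eq])
    obtain ⟨y, hy, hne'⟩ := hX.act
    have hy1 : (⟨y, hy⟩ : A) ∈ (⊥ : Subgroup A) := h2 ▸ Subgroup.mem_top _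
    rw [Subgroup.mem_bot] at hy1
    have hy2 : y = 1 := congrArg Subtype.val hy1
    exact hne' (by rw [hy2, mul_one, one_mul])
  have hfix : ∀ z ∈ Φ, c * z = z * c := hX.small Φ hΦA (fun b hb => hΦn.conj_mem b hb c) hΦne
  set D := A ⊓ Subgroup.centralizer (Φ : Set X) with hD
  have hDinv : ∀ b ∈ D, c * b * c⁻¹ ∈ D := fun b hb => by
    refine ⟨hX.normal.conj_mem b hb.1 c, Subgroup.mem_centralizer_iff.2 fun z hz => ?_⟩
    have h1 := Subgroup.mem_centralizer_iff.1 hb.2 z hz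
    have hzc : Commute c z := hfix z hz
    calc z * (c * b * c⁻¹) = c * (z * b) * c⁻¹ := by rw [← mul_assoc, ← mul_assoc, ← hzc.eq, mul_assoc c]
      _ = c * b * c⁻¹ * z := by rw [h1, mul_assoc _ c⁻¹, hzc.inv_left.eq]; group
  have hDA : D = A := by
    by_contra hne'
    obtain ⟨y, hy, hyc⟩ := hX.act
    refine hyc (twist hne hX hy (hX.small D inf_le_left hDinv hne' _ ?_))
    refine ⟨A.mul_mem (A.inv_mem hy) (hX.normal.conj_mem y hy c), Subgroup.mem_centralizer_iff.2 fun z hz => ?_⟩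
    have hzc : Commute c z := hfix z hz
    have hd : c * (y * z * y⁻¹) = (y * z * y⁻¹) * c := hfix _ (hΦn.conj_mem z hz y)
    have hci : Commute c⁻¹ z := hzc.inv_left
    have e : (c * y * c⁻¹) * z * (c * y * c⁻¹)⁻¹ = y * z * y⁻¹ := by
      calc (c * y * c⁻¹) * z * (c * y * c⁻¹)⁻¹ = c * y * (c⁻¹ * z * c) * y⁻¹ * c⁻¹ := by group
        _ = c * (y * z * y⁻¹) * c⁻¹ := by rw [hci.eq]; group
        _ = y * z * y⁻¹ := by rw [hd, mul_inv_cancel_right]
    calc z * (y⁻¹ * (c * y * c⁻¹)) = y⁻¹ * (y * z * y⁻¹) * (c * y * c⁻¹) := by group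
      _ = y⁻¹ * ((c * y * c⁻¹) * z * (c * y * c⁻¹)⁻¹) * (c * y * c⁻¹) := by rw [e]
      _ = y⁻¹ * (c * y * c⁻¹) * z := by group
  intro k hk
  have hk' : (k : X) ∈ Φ := ⟨k, hk, rfl⟩
  rw [Subgroup.mem_center_iff]
  intro g
  have hg : g ∈ A ⊔ Subgroup.zpowers c := hX.sup.ge (Subgroup.mem_top g)
  have hle : A ⊔ Subgroup.zpowers c ≤ Subgroup.centralizer {(k : X)} := by
    refine sup_le (fun v hv => ?_) (Subgroup.zpowers_le.2 (Subgroup.mem_centralizer_singleton_iff.2 (hfix _ hk')))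
    rw [← hDA] at hv
    exact Subgroup.mem_centralizer_singleton_iff.2 (Subgroup.mem_centralizer_iff.1 hv.2 _ hk').symm
  exact Subgroup.mem_centralizer_singleton_iff.1 (hle hg)

/-- The Frattini quotient is the field, the chosen generator acting as multiplication by `ω`. -/
theorem exists_coordinates {X : Type*} [Group X] [Finite X] {p q r a : ℕ} [hp : Fact p.Prime] [hq : Fact q.Prime]
    (hr : 1 ≤ r) {P : Sylow p X} {c₀ : X} (hX : XData P c₀ q r)
    {K : Type*} [Field K] [Finite K] {ω : K} (D : FData p q a K ω) :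
    ∃ (c : X) (π : ↥(P : Subgroup X) →* Multiplicative K), orderOf c = q ^ r ∧ Subgroup.zpowers c = Subgroup.zpowers c₀ ∧
      Function.Surjective π ∧ π.ker = frattini ↥(P : Subgroup X) ∧
      ∀ (y : ↥(P : Subgroup X)) (h : c * y * c⁻¹ ∈ (P : Subgroup X)), (π ⟨c * y * c⁻¹, h⟩).toAdd = ω * (π y).toAdd := by
  classical
  haveI := hX.normal
  haveI := D.char
  have hne := D.pne
  set A := (P : Subgroup X) with hA
  set Φ := frattini A with hΦ
  haveI : IsMulCommutative (A ⧸ Φ) := ⟨⟨fun u v => by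
    obtain ⟨u, rfl⟩ := QuotientGroup.mk'_surjective Φ u
    obtain ⟨v, rfl⟩ := QuotientGroup.mk'_surjective Φ v
    rw [← commutatorElement_eq_one_iff_mul_comm, ← map_commutatorElement]
    exact (QuotientGroup.eq_one_iff _).2 (CfsgLib.CoprimeAction.commutator_le_frattini' P.2
      (Subgroup.commutator_mem_commutator (Subgroup.mem_top _) (Subgroup.mem_top _)))⟩⟩
  have hstab : ∀ (g : X) (k : A), k ∈ Φ → (⟨g * k * g⁻¹, hX.normal.conj_mem _ k.2 g⟩ : A) ∈ Φ := fun g k hk => by
    have hn : (Φ.map A.subtype).Normal := ConjAct.normal_of_characteristic_of_normal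
    obtain ⟨k', hk', e⟩ := hn.conj_mem _ ⟨k, hk, rfl⟩ g
    rwa [show (⟨g * k * g⁻¹, hX.normal.conj_mem _ k.2 g⟩ : A) = k' from Subtype.ext e.symm]
  let σ : A →* A :=
    { toFun := fun y => ⟨c₀ * y * c₀⁻¹, hX.normal.conj_mem _ y.2 c₀⟩
      map_one' := Subtype.ext (by simp)
      map_mul' := fun u v => Subtype.ext (by simp [mul_assoc]) }
  let τ : A ⧸ Φ →* A ⧸ Φ := QuotientGroup.map Φ Φ σ fun k hk => hstab c₀ k hk
  let L : AddMonoid.End (Additive (A ⧸ Φ)) := MonoidHom.toAdditive τ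
  have hL : ∀ y : A, L (Additive.ofMul (QuotientGroup.mk y : A ⧸ Φ)) = Additive.ofMul (QuotientGroup.mk (σ y) : A ⧸ Φ) :=
    fun y => rfl
  -- no fixed points
  let δ : A ⧸ Φ →* A ⧸ Φ := τ / MonoidHom.id _
  have hδinj : Function.Injective δ := by
    by_contra hni
    have hnsur : ¬ Function.Surjective δ := fun h => hni (Finite.injective_iff_surjective.2 h)
    set B := (δ.range.comap (QuotientGroup.mk' Φ)).map A.subtype with hB
    have hBne : B ≠ A := fun h => hnsur fun u => by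
      obtain ⟨u, rfl⟩ := QuotientGroup.mk'_surjective Φ u
      obtain ⟨u', hu', e⟩ := (h.symm ▸ u.2 : (u : X) ∈ B)
      rwa [show u' = u from Subtype.ext e] at hu'
    have hinv : ∀ b ∈ B, c₀ * b * c₀⁻¹ ∈ B := by
      rintro _ ⟨b, ⟨u, hu⟩, rfl⟩
      refine ⟨σ b, ⟨τ u, ?_⟩, rfl⟩
      have h : τ (δ u) = δ (τ u) := by
        show τ (τ u / u) = τ (τ u) / τ u
        rw [map_div]
      rw [← h, hu]
      rfl
    have hBfix := hX.small B (Subgroup.map_subtype_le _) hinv hBne
    obtain ⟨y, hy, hyc⟩ := hX.act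
    refine hyc (twist hne hX hy (hBfix _ ⟨(⟨y, hy⟩ : A)⁻¹ * σ ⟨y, hy⟩, ⟨QuotientGroup.mk ⟨y, hy⟩, ?_⟩, rfl⟩))
    show τ (QuotientGroup.mk (⟨y, hy⟩ : A)) / QuotientGroup.mk (⟨y, hy⟩ : A) = _
    rw [QuotientGroup.mk'_apply, QuotientGroup.mk_mul, QuotientGroup.mk_inv, div_eq_mul_inv, mul_comm]
    rfl
  -- irreducibility
  have hirr : ∀ U : AddSubgroup (Additive (A ⧸ Φ)), (∀ v ∈ U, L v ∈ U) → U = ⊥ ∨ U = ⊤ := by
    intro U hU
    set B := ((AddSubgroup.toSubgroup' U).comap (QuotientGroup.mk' Φ)).map A.subtype with hB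
    have hinv : ∀ b ∈ B, c₀ * b * c₀⁻¹ ∈ B := by
      rintro _ ⟨b, hb, rfl⟩
      exact ⟨σ b, hU _ hb, rfl⟩
    by_cases hBA : B = A
    · refine Or.inr (eq_top_iff.2 fun v _ => ?_)
      obtain ⟨u, hu⟩ := QuotientGroup.mk'_surjective Φ (Additive.toMul v)
      obtain ⟨u', hu', e⟩ := (hBA.symm ▸ u.2 : (u : X) ∈ B)
      rw [show u' = u from Subtype.ext e] at hu'
      have h' : Additive.ofMul ((QuotientGroup.mk' Φ) u) ∈ U := hu'
      rwa [hu] at h'
    · refine Or.inl (eq_bot_iff.2 fun v hv => ?_)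
      obtain ⟨u, hu⟩ := QuotientGroup.mk'_surjective Φ (Additive.toMul v)
      have hfixu : σ u = u := Subtype.ext (by
        show c₀ * (u : X) * c₀⁻¹ = u
        rw [hX.small B (Subgroup.map_subtype_le _) hinv hBA u ⟨u, by rw [SetLike.mem_coe, Subgroup.mem_comap, hu]; exact hv, rfl⟩,
          mul_inv_cancel_right])
      have h1 : δ (QuotientGroup.mk u) = δ 1 := by
        rw [map_one]
        show τ (QuotientGroup.mk u) / QuotientGroup.mk u = 1
        rw [div_eq_one]
        show ((σ u : A) : A ⧸ Φ) = _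
        rw [hfixu]
      have h2 := hδinj h1
      rw [QuotientGroup.mk'_apply, h2] at hu
      exact AddSubgroup.mem_bot.2 (Additive.toMul.injective hu.symm)
  have hntriv : ∃ v₀ : Additive (A ⧸ Φ), v₀ ≠ 0 := by
    by_contra h
    push Not at h
    have h1 : Φ = ⊤ := eq_top_iff.2 fun y _ => (QuotientGroup.eq_one_iff y).1 (h (Additive.ofMul (QuotientGroup.mk y)))
    have h2 : (⊥ : Subgroup A) = ⊤ := frattini_nongenerating (by rw [← hΦ, h1, bot_sup_eq])
    obtain ⟨y, hy, hyc⟩ := hX.act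
    have hy1 : (⟨y, hy⟩ : A) ∈ (⊥ : Subgroup A) := h2 ▸ Subgroup.mem_top _
    rw [Subgroup.mem_bot] at hy1
    have hy2 : y = 1 := congrArg Subtype.val hy1
    exact hyc (by rw [hy2, mul_one, one_mul])
  obtain ⟨v₀, hv₀⟩ := hntriv
  have hLq : L ^ q = 1 := by
    have hi : ∀ (i : ℕ) (y : A), ∃ h, (L ^ i) (Additive.ofMul (QuotientGroup.mk y : A ⧸ Φ))
        = Additive.ofMul (QuotientGroup.mk (⟨c₀ ^ i * y * (c₀ ^ i)⁻¹, h⟩ : A) : A ⧸ Φ) := by
      intro i
      induction i with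
      | zero => intro y; exact ⟨by simp, by rw [pow_zero]; simp⟩
      | succ i ih =>
        intro y
        obtain ⟨h, he⟩ := ih y
        refine ⟨hX.normal.conj_mem _ y.2 _, ?_⟩
        rw [pow_succ']
        show L ((L ^ i) _) = _
        rw [he, hL]
        congr 2
        refine Subtype.ext ?_
        show c₀ * (c₀ ^ i * (y : X) * (c₀ ^ i)⁻¹) * c₀⁻¹ = c₀ ^ (i + 1) * (y : X) * (c₀ ^ (i + 1))⁻¹
        rw [pow_succ']; group
    ext v
    obtain ⟨u, hu⟩ := QuotientGroup.mk'_surjective Φ (Additive.toMul v)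
    obtain ⟨h, he⟩ := hi q u
    have : v = Additive.ofMul (QuotientGroup.mk u : A ⧸ Φ) := Additive.toMul.injective hu.symm
    rw [this, he]
    exact congrArg (fun z : A => Additive.ofMul (QuotientGroup.mk z : A ⧸ Φ)) (Subtype.ext
      (show c₀ ^ q * (u : X) * (c₀ ^ q)⁻¹ = u by rw [hX.pow_q u u.2, mul_inv_cancel_right]))
  -- the field of endomorphisms
  set R : Subring (AddMonoid.End (Additive (A ⧸ Φ))) := Subring.closure {L} with hR
  haveI : Finite (AddMonoid.End (Additive (A ⧸ Φ))) := Finite.of_injective _ DFunLike.coe_injective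
  have hcommL : ∀ g ∈ R, L * g = g * L := fun g hg => by
    have : R ≤ Subring.centralizer {L} := Subring.closure_le.2 (Set.singleton_subset_iff.2
      (Subring.mem_centralizer_iff.2 fun y hy => by rw [Set.mem_singleton_iff.1 hy]))
    exact Subring.mem_centralizer_iff.1 (this hg) L rfl
  have hkerinv : ∀ g ∈ R, g ≠ 0 → Function.Injective g := fun g hg hg0 => by
    suffices AddMonoidHom.ker g = ⊥ from (AddMonoidHom.ker_eq_bot_iff g).1 this
    refine (hirr (AddMonoidHom.ker g) fun v hv => ?_).resolve_right fun h => hg0 ?_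
    · show g (L v) = 0
      have := congrArg (fun f : AddMonoid.End (Additive (A ⧸ Φ)) => f v) (hcommL g hg)
      exact this.symm.trans (by show L (g v) = 0; rw [show g v = 0 from hv, map_zero])
    · exact DFunLike.ext _ _ fun v => (h ▸ AddSubgroup.mem_top v : v ∈ AddMonoidHom.ker g)
  letI : CommRing R := Subring.closureCommRingOfComm (fun u hu v hv => by
    rw [Set.mem_singleton_iff.1 hu, Set.mem_singleton_iff.1 hv])
  haveI : Nontrivial R := ⟨⟨0, 1, fun h => hv₀ (congrArg (fun f : R => (f : AddMonoid.End (Additive (A ⧸ Φ))) v₀) h).symm⟩⟩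
  haveI : NoZeroDivisors R := ⟨fun {g h} hgh => by
    by_cases hg : g = 0
    · exact Or.inl hg
    · refine Or.inr (Subtype.ext (DFunLike.ext _ _ fun v => ?_))
      have h0 := congrArg (fun f : R => (f : AddMonoid.End (Additive (A ⧸ Φ))) v) hgh
      exact hkerinv g g.2 (fun e => hg (Subtype.ext e)) (h0.trans (map_zero _).symm)⟩
  haveI : IsDomain R := NoZeroDivisors.to_isDomain R
  haveI : Fintype R := Fintype.ofFinite R
  letI : Field R := Fintype.fieldOfDomain R
  let ev : R →+ Additive (A ⧸ Φ) :=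
    { toFun := fun f => (f : AddMonoid.End (Additive (A ⧸ Φ))) v₀
      map_zero' := rfl
      map_add' := fun f g => rfl }
  have hev : Function.Bijective ev := by
    refine ⟨(injective_iff_map_eq_zero ev).2 fun f hf => ?_, ?_⟩
    · by_contra hf0
      exact hv₀ (hkerinv f f.2 (fun e => hf0 (Subtype.ext e)) (hf.trans (map_zero _).symm))
    · refine AddMonoidHom.range_eq_top.1 ((hirr ev.range fun v hv => ?_).resolve_left fun h => hv₀ ?_)
      · obtain ⟨f, rfl⟩ := hv
        exact ⟨⟨L, Subring.subset_closure rfl⟩ * f, rfl⟩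
      · have : v₀ ∈ ev.range := ⟨1, rfl⟩
        rwa [h, AddSubgroup.mem_bot] at this
  haveI : CharP R p := by
    refine CharP.charP_iff_prime_eq_zero hp.out |>.2 (hev.1 ?_)
    rw [map_zero, show ((p : R)) = p • (1 : R) by rw [nsmul_eq_mul, mul_one], map_nsmul]
    apply Additive.toMul.injective
    obtain ⟨u, hu⟩ := QuotientGroup.mk'_surjective Φ (Additive.toMul (ev 1))
    rw [toMul_nsmul, ← hu, ← map_pow, toMul_zero]
    exact (QuotientGroup.eq_one_iff _).2 (CfsgLib.CoprimeAction.pow_mem_frattini P.2 u)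
  set LR : R := ⟨L, Subring.subset_closure rfl⟩ with hLR
  have hL1 : LR ≠ 1 := by
    intro h
    have hfix : ∀ v, L v = v := fun v => congrArg (fun f : R => (f : AddMonoid.End (Additive (A ⧸ Φ))) v) h
    refine hv₀ ?_
    obtain ⟨u, hu⟩ := QuotientGroup.mk'_surjective Φ (Additive.toMul v₀)
    have h1 : δ (QuotientGroup.mk u) = δ 1 := by
      rw [map_one]
      show τ (QuotientGroup.mk u) / QuotientGroup.mk u = 1
      rw [div_eq_one]
      exact congrArg Additive.toMul (hfix (Additive.ofMul (QuotientGroup.mk u)))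
    rw [QuotientGroup.mk'_apply, hδinj h1] at hu
    exact Additive.toMul.injective hu.symm
  have hordL : orderOf LR = q := orderOf_eq_prime (Subtype.ext hLq) hL1
  have hgen : Subring.closure {LR} = ⊤ := by
    rw [eq_top_iff]
    intro x _
    have hx : (x : AddMonoid.End (Additive (A ⧸ Φ))) ∈ (Subring.closure {LR}).map R.subtype := by
      rw [RingHom.map_closure, Set.image_singleton]; exact x.2
    obtain ⟨y, hy, hyx⟩ := hx
    exact (Subtype.ext hyx : y = x) ▸ hy
  have hcardR := card_field_of_closure hp.out hq.out hne D.ha LR hordL hgen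
  haveI := Fintype.ofFinite K
  let ι : R ≃+* K := FiniteField.ringEquivOfCardEq (K := ↥R) (K' := K) (by
    rw [← Nat.card_eq_fintype_card, ← Nat.card_eq_fintype_card, hcardR, D.card])
  -- the power acting as `ω`
  have hζ : IsPrimitiveRoot (ι LR) q := by
    have : orderOf (ι LR) = q := by
      rw [← hordL]; exact orderOf_injective ι.toRingHom.toMonoidHom ι.injective LR
    exact this ▸ IsPrimitiveRoot.orderOf _
  haveI : NeZero q := ⟨hq.out.ne_zero⟩
  obtain ⟨j, hjq, hj⟩ := hζ.eq_pow_of_pow_eq_one (ξ := ω) (by rw [← D.ord, pow_orderOf_eq_one])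
  have hj0 : j ≠ 0 := fun h => D.ne_one (by rw [← hj, h, pow_zero])
  have hcop : (q ^ r).Coprime j :=
    (Nat.Coprime.pow_left r ((hq.out.coprime_iff_not_dvd).2 fun hd => hj0 (Nat.eq_zero_of_dvd_of_lt hd hjq)))
  let E : Additive (A ⧸ Φ) ≃+ K := (AddEquiv.ofBijective ev hev).symm.trans ι.toAddEquiv
  have hE : ∀ v, E (L v) = ι LR * E v := fun v => by
    obtain ⟨f, rfl⟩ := hev.2 v
    have h1 : L (ev f) = ev (LR * f) := rfl
    have h2 : ∀ g, E (ev g) = ι g := fun g => by
      show ι ((AddEquiv.ofBijective ev hev).symm ((AddEquiv.ofBijective ev hev) g)) = ι g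
      rw [AddEquiv.symm_apply_apply]
    rw [h1, h2, h2, map_mul]
  let π : A →* Multiplicative K := E.toAddMonoidHom.toMultiplicativeRight.comp (QuotientGroup.mk' Φ)
  have hπ : ∀ y : A, (π y).toAdd = E (Additive.ofMul (QuotientGroup.mk y : A ⧸ Φ)) := fun y => rfl
  refine ⟨c₀ ^ j, π, ?_, ?_, ?_, ?_, ?_⟩
  · rw [Nat.Coprime.orderOf_pow (by rw [hX.ord]; exact hcop), hX.ord]
  · refine Subgroup.eq_of_le_of_card_ge (Subgroup.zpowers_le.2 (pow_mem (Subgroup.mem_zpowers _) j)) ?_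
    rw [Nat.card_zpowers, Nat.card_zpowers, Nat.Coprime.orderOf_pow (by rw [hX.ord]; exact hcop)]
  · intro x
    obtain ⟨v, hv⟩ := E.surjective x.toAdd
    obtain ⟨u, hu⟩ := QuotientGroup.mk'_surjective Φ (Additive.toMul v)
    refine ⟨u, Multiplicative.toAdd.injective ?_⟩
    rw [hπ, ← hv]
    exact congrArg E (Additive.toMul.injective hu)
  · ext y
    rw [MonoidHom.mem_ker, ← Multiplicative.toAdd.injective.eq_iff, hπ, toAdd_one, map_eq_zero_iff E E.injective]
    exact ⟨fun h => (QuotientGroup.eq_one_iff y).1 (congrArg Additive.toMul h),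
      fun h => Additive.toMul.injective ((QuotientGroup.eq_one_iff y).2 h)⟩
  · intro y h
    rw [← hj]
    have hi : ∀ (i : ℕ) (h : c₀ ^ i * (y : X) * (c₀ ^ i)⁻¹ ∈ A),
        (π ⟨c₀ ^ i * y * (c₀ ^ i)⁻¹, h⟩).toAdd = ι LR ^ i * (π y).toAdd := by
      intro i
      induction i with
      | zero => intro h; simp
      | succ i ih =>
        intro h
        have e : (⟨c₀ ^ (i + 1) * y * (c₀ ^ (i + 1))⁻¹, h⟩ : A)
            = σ ⟨c₀ ^ i * y * (c₀ ^ i)⁻¹, hX.normal.conj_mem _ y.2 _⟩ := Subtype.ext (by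
          show c₀ ^ (i + 1) * (y : X) * (c₀ ^ (i + 1))⁻¹ = c₀ * (c₀ ^ i * y * (c₀ ^ i)⁻¹) * c₀⁻¹
          rw [pow_succ']; group)
        rw [e, hπ, ← hL, hE, ← hπ, ih, pow_succ', mul_assoc]
    exact hi j h

end CfsgLib.SchmidtCover
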