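import Cfsg.Agent.SchmidtCover.Model
import Cfsg.Agent.SchmidtCover.Bound
import Cfsg.Agent.SchmidtCover.Structure

/-!
Every minimal non-`p`-nilpotent group of order `p ^ t * q ^ r` is a central quotient of the universal one.
-/

set_option autoImplicit false
set_option linter.style.haveILetI false

open scoped commutatorElement

namespace CfsgLib.SchmidtCover

variable {p q a : ℕ} {K : Type*} [Field K] [Finite K] {ω : K} {W : AddSubgroup K} {δ : K →+ K →+ W}

theorem exists_epi [hp : Fact p.Prime] [hq : Fact q.Prime] (D : FData p q a K ω)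
    (hinv : ∀ x y, δ (ω * x) (ω * y) = δ x y) (hW : Nat.card W = p ^ half a)
    (hcl : AddSubgroup.closure (Set.range fun s : K × K => δ s.1 s.2 - δ s.2 s.1) = ⊤)
    {r : ℕ} (hr : 1 ≤ r) {X : Type*} [Group X] [Finite X] (h1 : ¬ Cfsg.HasNormalPComplement p X)
    (h2 : ∀ L : Subgroup X, L ≠ ⊤ → Cfsg.HasNormalPComplement p ↥L) {t : ℕ} (hcard : Nat.card X = p ^ t * q ^ r) :
    ∃ φ : Model D hinv (dvd_pow_self q (by omega : r ≠ 0)) →* X, Function.Surjective φ ∧
      φ.ker ≤ Subgroup.center (Model D hinv (dvd_pow_self q (by omega : r ≠ 0))) := by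
  classical
  haveI : NeZero (q ^ r) := ⟨pow_ne_zero _ hq.out.ne_zero⟩
  obtain ⟨P⟩ : Nonempty (Sylow p X) := inferInstance
  obtain ⟨c₀, hX⟩ := exists_xdata D.pne hr h1 h2 hcard P
  have hex := exists_coordinates hr hX D
  have hAn := hX.normal
  have hfc := frattini_central D.pne hX
  set A := (P : Subgroup X) with hA
  obtain ⟨c, π, hord, hzc, hπs, hπk, hπc⟩ := hex
  let sX : MulAut A :=
    { toFun := fun y => ⟨c * y * c⁻¹, hAn.conj_mem _ y.2 c⟩
      invFun := fun y => ⟨c⁻¹ * y * c, by simpa using hAn.conj_mem _ y.2 c⁻¹⟩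
      left_inv := fun y => Subtype.ext (by simp [mul_assoc])
      right_inv := fun y => Subtype.ext (by simp [mul_assoc])
      map_mul' := fun u v => Subtype.ext (by simp [mul_assoc]) }
  have hkc : ∀ k ∈ π.ker, (k : X) ∈ Subgroup.center X := fun k hk => hfc k (hπk ▸ hk)
  -- the fibre product
  let E : Subgroup (CExt δ × A) :=
    { carrier := {w | w.1.fst = (π w.2).toAdd}
      one_mem' := by simp
      mul_mem' := fun {u v} hu hv => by
        show u.1.fst + v.1.fst = (π (u.2 * v.2)).toAdd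
        rw [map_mul, toAdd_mul, show u.1.fst = (π u.2).toAdd from hu, show v.1.fst = (π v.2).toAdd from hv]
      inv_mem' := fun {u} hu => by
        show -u.1.fst = (π u.2⁻¹).toAdd
        rw [map_inv, toAdd_inv, show u.1.fst = (π u.2).toAdd from hu] }
  let σ₀ : MulAut (CExt δ × A) := MulEquiv.prodCongr (rot D hinv) sX
  have hσE : ∀ w : CExt δ × A, w ∈ E ↔ σ₀ w ∈ E := fun w => by
    show w.1.fst = (π w.2).toAdd ↔ ω * w.1.fst = (π ⟨c * w.2 * c⁻¹, hAn.conj_mem _ w.2.2 c⟩).toAdd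
    rw [hπc, mul_right_inj' D.ne_zero]
  let σ : MulAut E :=
    { toFun := fun w => ⟨σ₀ w, (hσE _).1 w.2⟩
      invFun := fun w => ⟨σ₀.symm w, (hσE _).2 (by rw [MulEquiv.apply_symm_apply]; exact w.2)⟩
      left_inv := fun w => Subtype.ext (σ₀.symm_apply_apply w)
      right_inv := fun w => Subtype.ext (σ₀.apply_symm_apply w)
      map_mul' := fun u v => Subtype.ext (map_mul σ₀ (u : CExt δ × A) v) }
  let ψ : E →* Multiplicative K := (CExt.proj δ).comp ((MonoidHom.fst (CExt δ) A).comp E.subtype)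
  have hψs : Function.Surjective ψ := fun x => by
    obtain ⟨y, hy⟩ := hπs x
    exact ⟨⟨(⟨x.toAdd, 0⟩, y), by show x.toAdd = (π y).toAdd; rw [hy]⟩, rfl⟩
  have hψk : ∀ w ∈ ψ.ker, (w : CExt δ × A).1.fst = 0 ∧ (w : CExt δ × A).2 ∈ π.ker := fun w hw => by
    have h : (w : CExt δ × A).1.fst = 0 := congrArg Multiplicative.toAdd (MonoidHom.mem_ker.1 hw)
    refine ⟨h, MonoidHom.mem_ker.2 (Multiplicative.toAdd.injective ?_)⟩
    rw [← show (w : CExt δ × A).1.fst = (π (w : CExt δ × A).2).toAdd from w.2, h]; rfl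
  have hψc : ψ.ker ≤ Subgroup.center E := fun w hw => by
    obtain ⟨ha, hb⟩ := hψk w hw
    refine Subgroup.mem_center_iff.2 fun v => Subtype.ext (Prod.ext ?_ (Subtype.ext ?_))
    · exact Subgroup.mem_center_iff.1 (CExt.mem_center ha) _
    · exact Subgroup.mem_center_iff.1 (hkc _ hb) _
  have hψσ : ∀ w, (ψ (σ w)).toAdd = ω * (ψ w).toAdd := fun w => rfl
  have hψfix : ∀ w ∈ ψ.ker, σ w = w := fun w hw => by
    obtain ⟨ha, hb⟩ := hψk w hw
    refine Subtype.ext (Prod.ext (CExt.ext ?_ rfl) (Subtype.ext ?_))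
    · show ω * (w : CExt δ × A).1.fst = (w : CExt δ × A).1.fst
      rw [ha, mul_zero]
    · show c * ((w : CExt δ × A).2 : X) * c⁻¹ = ((w : CExt δ × A).2 : X)
      rw [Subgroup.mem_center_iff.1 (hkc _ hb) c, mul_inv_cancel_right]
  obtain ⟨S, hSinv, hSmap, hScard⟩ := D.exists_small ψ hψs hψc σ hψσ hψfix
  let f₁ : S →* CExt δ := (MonoidHom.fst (CExt δ) A).comp (E.subtype.comp S.subtype)
  let f₂ : S →* A := (MonoidHom.snd (CExt δ) A).comp (E.subtype.comp S.subtype)
  have hf₁s : Function.Surjective f₁ := by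
    rw [← MonoidHom.range_eq_top]
    refine CExt.eq_top_of_fst hcl fun x => ?_
    obtain ⟨s, hs, hsx⟩ : Multiplicative.ofAdd x ∈ S.map ψ := hSmap ▸ Subgroup.mem_top _
    refine ⟨(s : CExt δ × A).1.snd, ⟨s, hs⟩, CExt.ext ?_ rfl⟩
    exact congrArg Multiplicative.toAdd hsx
  have hf₁b : Function.Bijective f₁ := by
    refine (Nat.bijective_iff_surjective_and_card f₁).2 ⟨hf₁s, le_antisymm ?_ (Nat.card_le_card_of_surjective f₁ hf₁s)⟩
    rw [CExt.card_eq, D.card, hW, ← pow_add]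
    exact hScard
  let e₁ : S ≃* CExt δ := MulEquiv.ofBijective f₁ hf₁b
  let φ₀ : CExt δ →* X := A.subtype.comp (f₂.comp e₁.symm.toMonoidHom)
  have hfst : ∀ u, u.fst = (π (f₂ (e₁.symm u))).toAdd := fun u => by
    have h := ((e₁.symm u : S) : E).2
    have h' : ((((e₁.symm u : S) : E) : CExt δ × A)).1 = u := e₁.apply_symm_apply u
    have h'' : ((((e₁.symm u : S) : E) : CExt δ × A)).1.fst = (π (f₂ (e₁.symm u))).toAdd := h
    rwa [h'] at h''
  have heq : ∀ u, φ₀ (rot D hinv u) = c * φ₀ u * c⁻¹ := fun u => by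
    set s := e₁.symm u with hs
    have hsu : f₁ s = u := e₁.apply_symm_apply u
    have h1 : e₁.symm (rot D hinv u) = ⟨σ (s : E), hSinv _ s.2⟩ := by
      rw [MulEquiv.symm_apply_eq]
      show rot D hinv u = rot D hinv (f₁ s)
      rw [hsu]
    show (f₂ (e₁.symm (rot D hinv u)) : X) = c * (f₂ (e₁.symm u) : X) * c⁻¹
    rw [h1]
    rfl
  have hc : c ^ (q ^ r) = 1 := by rw [← hord, pow_orderOf_eq_one]
  let fg : Multiplicative (ZMod (q ^ r)) →* X := cycHom (q ^ r) c hc
  have hcompat : ∀ g, φ₀.comp ((cycHom (q ^ r) (rot D hinv) (rot_pow_eq_one D hinv (dvd_pow_self q (by omega : r ≠ 0)))) g).toMonoidHom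
      = (MulAut.conj (fg g)).toMonoidHom.comp φ₀ := by
    intro g
    obtain ⟨i, hi⟩ := ZMod.natCast_zmod_surjective g.toAdd
    have hg : g = Multiplicative.ofAdd (i : ZMod (q ^ r)) := by rw [hi]; rfl
    rw [hg, cycHom_natCast, show fg (Multiplicative.ofAdd (i : ZMod (q ^ r))) = c ^ i from cycHom_natCast _ _ _ i]
    ext u
    show φ₀ ((rot D hinv ^ i) u) = c ^ i * φ₀ u * (c ^ i)⁻¹
    induction i generalizing u g with
    | zero => simp
    | succ i ih =>
      rw [pow_succ', MulAut.mul_apply, heq,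
        ih (Multiplicative.ofAdd (i : ZMod (q ^ r))) rfl rfl u, pow_succ']
      group
  refine ⟨SemidirectProduct.lift φ₀ fg hcompat, fun x => ?_, fun g hg => ?_⟩
  · -- surjectivity
    have hT : f₂.range = ⊤ := by
      refine frattini_nongenerating (eq_top_iff.2 fun y _ => ?_)
      obtain ⟨s, hs, hsx⟩ : π y ∈ S.map ψ := hSmap ▸ Subgroup.mem_top _
      have h2 : π (f₂ ⟨s, hs⟩) = π y := by
        rw [← hsx]
        exact Multiplicative.toAdd.injective (show (s : CExt δ × A).1.fst = (π (s : CExt δ × A).2).toAdd from s.2).symm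
      have h3 : (f₂ ⟨s, hs⟩)⁻¹ * y ∈ frattini A := by
        rw [← hπk, MonoidHom.mem_ker, map_mul, map_inv, h2, inv_mul_cancel]
      rw [show y = f₂ ⟨s, hs⟩ * ((f₂ ⟨s, hs⟩)⁻¹ * y) by rw [mul_inv_cancel_left]]
      exact mul_mem (Subgroup.mem_sup_left ⟨_, rfl⟩) (Subgroup.mem_sup_right h3)
    obtain ⟨v, hv, u, hu, rfl⟩ := Subgroup.mem_sup_of_normal_left.1 (hX.sup.ge (Subgroup.mem_top x))
    obtain ⟨s, hs⟩ : (⟨v, hv⟩ : A) ∈ f₂.range := hT ▸ Subgroup.mem_top _
    rw [← hzc] at hu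
    obtain ⟨i, rfl⟩ := (isOfFinOrder_of_finite c).mem_zpowers_iff_mem_range_orderOf.1 hu |> Finset.mem_image.1 |>.imp
      fun i h => h.2.symm
    refine ⟨⟨f₁ s, Multiplicative.ofAdd (i : ZMod (q ^ r))⟩, ?_⟩
    show φ₀ (f₁ s) * fg _ = v * c ^ i
    rw [show fg (Multiplicative.ofAdd (i : ZMod (q ^ r))) = c ^ i from cycHom_natCast _ _ _ i]
    congr 1
    show (f₂ (e₁.symm (e₁ s)) : X) = v
    rw [MulEquiv.symm_apply_apply, hs]
  · -- the kernel
    obtain ⟨i, hi⟩ := ZMod.natCast_zmod_surjective g.right.toAdd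
    have hgr : g.right = Multiplicative.ofAdd (i : ZMod (q ^ r)) := by rw [hi]; rfl
    have h : φ₀ g.left * c ^ i = 1 := by
      have h := MonoidHom.mem_ker.1 hg
      rw [show c ^ i = fg g.right by rw [hgr]; exact (cycHom_natCast _ _ _ i).symm]
      exact h
    have hci : c ^ i = 1 := by
      refine hX.meet _ ?_ (hzc ▸ pow_mem (Subgroup.mem_zpowers c) i)
      rw [eq_inv_of_mul_eq_one_right h]
      exact A.inv_mem (f₂ (e₁.symm g.left)).2
    have hr1 : g.right = 1 := by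
      rw [hgr, show (i : ZMod (q ^ r)) = 0 from (ZMod.natCast_eq_zero_iff i (q ^ r)).2 (hord ▸ orderOf_dvd_of_pow_eq_one hci)]
      rfl
    rw [hci, mul_one] at h
    have hf : f₂ (e₁.symm g.left) = 1 := Subtype.ext h
    have hz : g.left.fst = 0 := by rw [hfst, hf, map_one]; rfl
    have e : g = SemidirectProduct.inl g.left := by ext1 <;> simp [hr1]
    rw [e]
    exact center_of_fst D hinv (dvd_pow_self q (by omega : r ≠ 0)) hz

end CfsgLib.SchmidtCover
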