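import Mathlib

/-!
A finite field generated by an element of prime order: invariant alternating pairings and a cocycle.
-/

set_option autoImplicit false
set_option linter.style.haveILetI false

namespace CfsgLib.SchmidtCover

/-- A field of order `p ^ a` with an element `ω` of prime order `q`, `a` being the order of `p` modulo `q`. -/
structure FData (p q a : ℕ) (F : Type*) [Field F] [Finite F] (ω : F) : Prop where
  hp : p.Prime
  hq : q.Prime
  pne : p ≠ q
  ha : a = orderOf (p : ZMod q)
  card : Nat.card F = p ^ a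
  char : CharP F p
  ord : orderOf ω = q

/-- The exponent of the centre of the universal group. -/
def half (a : ℕ) : ℕ := if a % 2 = 1 then 0 else a / 2

theorem a_add_half (a : ℕ) : a + half a = if a % 2 = 1 then a else 3 * a / 2 := by
  unfold half; split_ifs <;> omega

theorem dvd_of_natCast {p q n : ℕ} (h : q ∣ p ^ n - 1) (hp : 0 < p) : orderOf (p : ZMod q) ∣ n := by
  rw [orderOf_dvd_iff_pow_eq_one, ← Nat.cast_pow, ← Nat.cast_one (R := ZMod q), ZMod.natCast_eq_natCast_iff']
  exact ((Nat.modEq_iff_dvd' (Nat.one_le_pow _ _ hp)).2 h).symm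

theorem natCast_ne_zero {p q : ℕ} (hp : p.Prime) (hq : q.Prime) (h : p ≠ q) : (p : ZMod q) ≠ 0 := by
  rw [Ne, ZMod.natCast_eq_zero_iff]
  exact fun hd => h ((Nat.prime_dvd_prime_iff_eq hq hp).1 hd).symm

theorem order_pos {p q : ℕ} (hp : p.Prime) (hq : q.Prime) (h : p ≠ q) : 0 < orderOf (p : ZMod q) := by
  haveI := Fact.mk hq
  exact ((isUnit_iff_ne_zero.2 (natCast_ne_zero hp hq h)).isOfFinOrder).orderOf_pos

theorem dvd_pow_order_sub_one {p q : ℕ} (hp : p.Prime) : q ∣ p ^ orderOf (p : ZMod q) - 1 := by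
  refine (Nat.modEq_iff_dvd' (Nat.one_le_pow _ _ hp.pos)).1 ?_
  rw [← ZMod.natCast_eq_natCast_iff, Nat.cast_one, Nat.cast_pow, pow_orderOf_eq_one]

/-- A finite ring of characteristic `p` with an element of order `q` generating it has `p ^ a` elements if it is a field. -/
theorem card_field_of_closure {p q a : ℕ} (hp : p.Prime) (hq : q.Prime) (hne : p ≠ q)
    (ha : a = orderOf (p : ZMod q)) {K : Type*} [Field K] [Finite K] [CharP K p] (ζ : K) (hζ : orderOf ζ = q)
    (hgen : Subring.closure {ζ} = ⊤) : Nat.card K = p ^ a := by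
  classical
  haveI := Fact.mk hp
  haveI := Fintype.ofFinite K
  obtain ⟨d, -, hd⟩ := FiniteField.card K p
  rw [Nat.card_eq_fintype_card, hd]
  have hζ0 : ζ ≠ 0 := by
    rintro rfl
    have h := pow_orderOf_eq_one (0 : K)
    rw [hζ, zero_pow hq.ne_zero] at h
    exact zero_ne_one h
  have h1 : q ∣ p ^ (d : ℕ) - 1 := by
    rw [← hd, ← hζ]
    exact orderOf_dvd_of_pow_eq_one (FiniteField.pow_card_sub_one_eq_one ζ hζ0)
  have h2 : a ∣ (d : ℕ) := ha ▸ dvd_of_natCast h1 hp.pos
  have hpow : ∀ x : K, x ^ p ^ a = x := by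
    intro x
    have hx : x ∈ RingHom.eqLocus (iterateFrobenius K p a) (RingHom.id K) := by
      refine (Subring.closure_le.2 ?_ : Subring.closure {ζ} ≤ _) (hgen ▸ trivial)
      intro y hy
      rw [Set.mem_singleton_iff] at hy
      subst hy
      show iterateFrobenius K p a y = y
      rw [iterateFrobenius_def]
      obtain ⟨k, hk⟩ := ha ▸ dvd_pow_order_sub_one (q := q) hp
      have : p ^ a = q * k + 1 := by have := Nat.one_le_pow a p hp.pos; omega
      rw [this, pow_succ, pow_mul, ← hζ, pow_orderOf_eq_one, one_pow, one_mul]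
    have hx' : iterateFrobenius K p a x = x := hx
    rwa [iterateFrobenius_def] at hx'
  have hpos : 0 < a := ha ▸ order_pos hp hq hne
  have h3 : p ^ (d : ℕ) ≤ p ^ a := by
    rw [← hd]
    have hne0 : (Polynomial.X ^ p ^ a - Polynomial.X : Polynomial K) ≠ 0 :=
      FiniteField.X_pow_card_pow_sub_X_ne_zero K hpos.ne' hp.one_lt
    have hsub : (Finset.univ : Finset K) ⊆ (Polynomial.X ^ p ^ a - Polynomial.X : Polynomial K).roots.toFinset := by
      intro x _
      rw [Multiset.mem_toFinset, Polynomial.mem_roots hne0, Polynomial.IsRoot.def]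
      simp [hpow x]
    exact (Finset.card_le_card hsub).trans ((Multiset.toFinset_card_le _).trans
      ((Polynomial.card_roots' _).trans (FiniteField.X_pow_card_pow_sub_X_natDegree_eq K hpos.ne' hp.one_lt).le))
  congr 1
  exact le_antisymm ((Nat.pow_le_pow_iff_right hp.one_lt).1 h3) (Nat.le_of_dvd d.pos h2)

namespace FData

variable {p q a : ℕ} {F : Type*} [Field F] [Finite F] {ω : F} (D : FData p q a F ω)

include D

theorem a_pos : 0 < a := D.ha ▸ order_pos D.hp D.hq D.pne

theorem ne_one : ω ≠ 1 := by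
  intro h
  have := D.ord
  rw [h, orderOf_one] at this
  exact D.hq.ne_one this.symm

theorem ne_zero : ω ≠ 0 := by
  intro h
  have h1 := pow_orderOf_eq_one ω
  rw [D.ord, h, zero_pow D.hq.ne_zero] at h1
  exact zero_ne_one h1

theorem closure_eq_top : Subring.closure {ω} = ⊤ := by
  classical
  haveI := Fact.mk D.hp
  haveI := D.char
  haveI := Fintype.ofFinite F
  set R := Subring.closure {ω} with hR
  haveI : Fintype R := Fintype.ofFinite R
  letI : Field R := Fintype.fieldOfDomain R
  haveI : CharP R p := inferInstance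
  have hωR : ω ∈ R := Subring.subset_closure rfl
  have hgen : Subring.closure {(⟨ω, hωR⟩ : R)} = ⊤ := by
    rw [eq_top_iff]
    intro x _
    have hx : (x : F) ∈ (Subring.closure {(⟨ω, hωR⟩ : R)}).map R.subtype := by
      rw [RingHom.map_closure, Set.image_singleton]; exact x.2
    obtain ⟨y, hy, hyx⟩ := hx
    exact (Subtype.ext hyx : y = x) ▸ hy
  have hord : orderOf (⟨ω, hωR⟩ : R) = q := by
    rw [← D.ord]; exact (orderOf_injective R.subtype.toMonoidHom Subtype.val_injective _).symm
  have := card_field_of_closure D.hp D.hq D.pne D.ha (⟨ω, hωR⟩ : R) hord hgen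
  rw [← D.card] at this
  have h' : R.toAddSubgroup = ⊤ := AddSubgroup.eq_top_of_card_eq _ this
  exact eq_top_iff.2 fun x _ => (h' ▸ AddSubgroup.mem_top x : x ∈ R.toAddSubgroup)

/-- A subgroup of `F` invariant under multiplication by `ω` is trivial or everything. -/
theorem eq_top_of_invariant (U : AddSubgroup F) (hU : ∀ x ∈ U, ω * x ∈ U) {x : F} (hx : x ∈ U) (hx0 : x ≠ 0) :
    U = ⊤ := by
  let S : Subring F :=
    { carrier := {y | ∀ z ∈ U, y * z ∈ U}
      one_mem' := fun z hz => by rwa [one_mul]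
      mul_mem' := fun {u v} hu hv z hz => by rw [mul_assoc]; exact hu _ (hv z hz)
      add_mem' := fun {u v} hu hv z hz => by rw [add_mul]; exact U.add_mem (hu z hz) (hv z hz)
      zero_mem' := fun z _ => by rw [zero_mul]; exact U.zero_mem
      neg_mem' := fun {u} hu z hz => by rw [neg_mul]; exact U.neg_mem (hu z hz) }
  have hS : S = ⊤ := top_le_iff.1 (D.closure_eq_top ▸ Subring.closure_le.2 (Set.singleton_subset_iff.2 hU))
  refine eq_top_iff.2 fun y _ => ?_
  have : y / x ∈ S := hS ▸ trivial
  simpa [div_mul_cancel₀ y hx0] using this x hx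

theorem b_spec (hev : a % 2 = 0) :
    q ∣ p ^ (a / 2) + 1 := by
  haveI := Fact.mk D.hq
  have h1 : ((p : ZMod q) ^ (a / 2)) ^ 2 = 1 := by
    rw [← pow_mul, show a / 2 * 2 = a by omega, D.ha, pow_orderOf_eq_one]
  have h2 : (p : ZMod q) ^ (a / 2) ≠ 1 := by
    intro h
    have h3 : orderOf (p : ZMod q) ∣ a / 2 := orderOf_dvd_of_pow_eq_one h
    rw [← D.ha] at h3
    have := D.a_pos
    have := Nat.le_of_dvd (by omega) h3
    omega
  have h3 : (p : ZMod q) ^ (a / 2) = -1 := (sq_eq_one_iff.1 h1).resolve_left h2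
  rw [← ZMod.natCast_eq_zero_iff, Nat.cast_add, Nat.cast_pow, h3, Nat.cast_one, neg_add_cancel]

/-- The field automorphism of order two. -/
theorem exists_conj (hev : a % 2 = 0) :
    ∃ τ : F →+* F, τ ω = ω⁻¹ ∧ (∀ x, τ (τ x) = x) ∧
      Nat.card (RingHom.eqLocus τ (RingHom.id F)) = p ^ (a / 2) ∧
      (∀ x, τ x = x → ∃ u, u + τ u = x) ∧
      Nat.card (AddMonoidHom.range (AddMonoidHom.id F - τ.toAddMonoidHom)) = p ^ (a / 2) ∧
      ∃ u, τ u ≠ u := by
  classical
  haveI := Fact.mk D.hp
  haveI := D.char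
  haveI := Fintype.ofFinite F
  set b := a / 2 with hb
  have hab : a = b + b := by omega
  have hbpos : b ≠ 0 := by have := D.a_pos; omega
  set τ := iterateFrobenius F p b with hτ
  have hτd : ∀ x, τ x = x ^ p ^ b := fun x => iterateFrobenius_def p b x
  have hpb : 1 < p ^ b := Nat.one_lt_pow hbpos D.hp.one_lt
  have hττ : ∀ x, τ (τ x) = x := fun x => by
    rw [hτd, hτd, ← pow_mul, ← pow_add, ← hab, ← D.card, Nat.card_eq_fintype_card, FiniteField.pow_card]
  have hω : τ ω = ω⁻¹ := by
    rw [hτd]
    obtain ⟨k, hk⟩ := D.b_spec hev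
    refine eq_inv_of_mul_eq_one_left ?_
    rw [← pow_succ, hk, ← D.ord, pow_mul, pow_orderOf_eq_one, one_pow]
  have hbound : ∀ s : F, s ≠ 0 → Nat.card {x : F // x ^ p ^ b = s * x} ≤ p ^ b := by
    intro s _
    let f : Polynomial F := Polynomial.X ^ p ^ b - Polynomial.C s * Polynomial.X
    have hdeg : f.natDegree = p ^ b := by
      apply Polynomial.natDegree_eq_of_degree_eq_some
      rw [Polynomial.degree_sub_eq_left_of_degree_lt] <;> rw [Polynomial.degree_X_pow]
      refine lt_of_le_of_lt (Polynomial.degree_C_mul_X_le s) ?_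
      exact_mod_cast hpb
    have hf : f ≠ 0 := fun h => by
      rw [h, Polynomial.natDegree_zero] at hdeg
      omega
    rw [Nat.card_eq_fintype_card, ← Finset.card_univ, ← Finset.card_map (Function.Embedding.subtype _)]
    refine (Finset.card_le_card (t := f.roots.toFinset) ?_).trans ((Multiset.toFinset_card_le _).trans
      ((Polynomial.card_roots' _).trans hdeg.le))
    intro x hx
    obtain ⟨y, -, rfl⟩ := Finset.mem_map.1 hx
    rw [Multiset.mem_toFinset, Polynomial.mem_roots hf, Polynomial.IsRoot.def]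
    simp only [f, Polynomial.eval_sub, Polynomial.eval_pow, Polynomial.eval_X, Polynomial.eval_mul,
      Polynomial.eval_C, Function.Embedding.coe_subtype, y.2, sub_self]
  have hfix : Nat.card {x : F // τ x = x} ≤ p ^ b := by
    simpa only [hτd, one_mul] using hbound 1 one_ne_zero
  have hanti : Nat.card {x : F // τ x = -x} ≤ p ^ b := by
    simpa only [hτd, neg_one_mul] using hbound (-1) (neg_ne_zero.2 one_ne_zero)
  set f : F →+ F := AddMonoidHom.id F - τ.toAddMonoidHom with hf
  set g : F →+ F := AddMonoidHom.id F + τ.toAddMonoidHom with hg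
  have key : ∀ (h : F →+ F), Nat.card h.ker * Nat.card h.range = p ^ b * p ^ b := fun h => by
    rw [← AddSubgroup.index_ker, AddSubgroup.card_mul_index, D.card, hab, pow_add]
  have hfk : Nat.card f.ker = Nat.card {x : F // τ x = x} :=
    Nat.card_congr (Equiv.subtypeEquivRight fun x => (AddMonoidHom.mem_ker (f := f)).trans (sub_eq_zero.trans eq_comm))
  have hgk : Nat.card g.ker = Nat.card {x : F // τ x = -x} :=
    Nat.card_congr (Equiv.subtypeEquivRight fun x => (AddMonoidHom.mem_ker (f := g)).trans (add_eq_zero_iff_neg_eq.trans eq_comm))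
  have hfr : Nat.card f.range ≤ p ^ b := by
    refine le_trans (Nat.card_le_card_of_injective (fun y : f.range => (⟨(y : F), ?_⟩ : {x : F // τ x = -x})) ?_) hanti
    · obtain ⟨u, hu⟩ := y.2
      rw [← hu]; simp [f, map_sub, hττ]
    · intro y z h; exact Subtype.ext (congrArg (fun w : {x : F // _} => (w : F)) h :)
  have hgr : Nat.card g.range ≤ Nat.card {x : F // τ x = x} := by
    refine Nat.card_le_card_of_injective (fun y : g.range => (⟨(y : F), ?_⟩ : {x : F // τ x = x})) ?_
    · obtain ⟨u, hu⟩ := y.2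
      rw [← hu]; simp [g, map_add, hττ, add_comm]
    · intro y z h; exact Subtype.ext (congrArg (fun w : {x : F // _} => (w : F)) h :)
  have hpp : 0 < p ^ b := by omega
  have hf1 := key f
  have hg1 := key g
  rw [hfk] at hf1
  rw [hgk] at hg1
  have hfix' : Nat.card {x : F // τ x = x} = p ^ b := by
    nlinarith [Nat.mul_le_mul_left (Nat.card {x : F // τ x = x}) hfr]
  have hfr' : Nat.card f.range = p ^ b := by
    rw [hfix'] at hf1; exact Nat.eq_of_mul_eq_mul_left hpp hf1
  have hgr' : Nat.card g.range = p ^ b := by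
    rw [hfix'] at hgr
    nlinarith [Nat.mul_le_mul_right (Nat.card g.range) hanti]
  refine ⟨τ, hω, hττ, hfix', fun x hx => ?_, hfr', ?_⟩
  · have hinc : Function.Injective (fun y : g.range => (⟨(y : F), by
        obtain ⟨u, hu⟩ := y.2
        rw [← hu]; simp [g, map_add, hττ, add_comm]⟩ : {x : F // τ x = x})) :=
      fun y z h => Subtype.ext (congrArg Subtype.val h :)
    obtain ⟨y, hy⟩ := ((Nat.bijective_iff_injective_and_card _).2 ⟨hinc, by rw [hgr', hfix']⟩).2 ⟨x, hx⟩
    obtain ⟨u, hu⟩ := y.2
    refine ⟨u, ?_⟩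
    have h2 := congrArg Subtype.val hy
    dsimp only at h2
    rw [← h2, ← hu]; rfl
  · by_contra h
    push Not at h
    have : Nat.card {x : F // τ x = x} = Nat.card F := Nat.card_congr (Equiv.subtypeUnivEquiv h)
    rw [hfix', D.card, hab, pow_add] at this
    exact absurd this (by nlinarith)

end FData

end CfsgLib.SchmidtCover
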