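import Cfsg.Agent.SchmidtCover.Field

/-!
Invariant alternating pairings on the field, and the cocycle of the universal group.
-/

set_option autoImplicit false
set_option linter.style.haveILetI false

namespace CfsgLib.SchmidtCover.FData

variable {p q a : ℕ} {F : Type*} [Field F] [Finite F] {ω : F}

/-- The value set of an invariant alternating pairing has at most `p ^ half a` elements. -/
theorem pairing_bound (D : FData p q a F ω) {H : Type*} [AddCommGroup H] (B : F →+ F →+ H)
    (hinv : ∀ x y, B (ω * x) (ω * y) = B x y) (halt : ∀ x, B x x = 0) :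
    ∃ β : F →+ H, (∀ x y, B x y ∈ β.range) ∧ Nat.card β.range ≤ p ^ half a := by
  classical
  haveI := Fact.mk D.hp
  haveI := Fact.mk D.hq
  haveI := D.char
  have hω0 := D.ne_zero
  have hsw : ∀ x y, B (ω * x) y = B x (ω⁻¹ * y) := fun x y => by
    rw [← hinv x (ω⁻¹ * y), mul_inv_cancel_left₀ hω0]
  by_cases hev : a % 2 = 0
  · obtain ⟨τ, hτω, hττ, hfix, htr, -, -⟩ := D.exists_conj hev
    let S : Subring F :=
      { carrier := {x | ∀ z y, B (x * z) y = B z (τ x * y)}
        one_mem' := fun z y => by rw [map_one, one_mul, one_mul]
        mul_mem' := fun {u v} hu hv z y => by rw [mul_assoc, hu, hv, map_mul τ, mul_assoc, mul_left_comm]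
        add_mem' := fun {u v} hu hv z y => by
          rw [add_mul, map_add B, AddMonoidHom.add_apply, hu, hv, map_add τ, add_mul, map_add]
        zero_mem' := fun z y => by rw [zero_mul, map_zero B, AddMonoidHom.zero_apply, map_zero τ, zero_mul, map_zero]
        neg_mem' := fun {u} hu z y => by
          rw [neg_mul, map_neg B, AddMonoidHom.neg_apply, hu, map_neg τ, neg_mul, map_neg] }
    have hS : ∀ x, x ∈ S := fun x => by
      have : S = ⊤ := top_le_iff.1 (D.closure_eq_top ▸ Subring.closure_le.2
        (Set.singleton_subset_iff.2 fun z y => by rw [hsw, hτω]))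
      rw [this]; trivial
    have hrep : ∀ x y, B x y = B 1 (τ x * y) := fun x y => by
      conv_lhs => rw [← mul_one x]
      rw [hS x 1 y]
    refine ⟨B 1, fun x y => ⟨_, (hrep x y).symm⟩, ?_⟩
    have hN : ∀ u, B 1 (τ u * u) = 0 := fun u => by rw [← hrep, halt]
    have hker : ∀ x, τ x = x → B 1 x = 0 := by
      intro x hx
      obtain ⟨u, rfl⟩ := htr x hx
      have h := hN (u + 1)
      have e : τ (u + 1) * (u + 1) = τ u * u + (u + τ u) + 1 * 1 := by rw [map_add, map_one]; ring
      rw [e, map_add (B 1), map_add (B 1), hN u, zero_add] at h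
      have h1 : B 1 (1 * 1) = 0 := by rw [one_mul, halt]
      rwa [h1, add_zero] at h
    have h1 : Nat.card (RingHom.eqLocus τ (RingHom.id F)) ≤ Nat.card (B 1).ker :=
      Nat.card_le_card_of_injective (fun y => (⟨(y : F), hker _ y.2⟩ : (B 1).ker))
        fun y z h => Subtype.ext (congrArg Subtype.val h :)
    rw [hfix] at h1
    have h2 : Nat.card (B 1).ker * Nat.card (B 1).range = p ^ (a / 2) * p ^ (a / 2) := by
      rw [← AddSubgroup.index_ker, AddSubgroup.card_mul_index, D.card, ← pow_add]
      congr 1; omega
    rw [half, if_neg (by omega)]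
    have : 0 < p ^ (a / 2) := pow_pos D.hp.pos _
    by_contra hlt
    push Not at hlt
    nlinarith
  · refine ⟨0, fun x y => ?_, ?_⟩
    · suffices B x y = 0 by rw [this]; exact zero_mem _
      rcases eq_or_ne q 2 with hq2 | hq2
      · -- here `F` has prime order
        have hω1 : ω * ω = 1 := by rw [← pow_two, ← hq2, ← D.ord, pow_orderOf_eq_one]
        have hωm : ω = -1 := (mul_self_eq_one_iff.1 hω1).resolve_left D.ne_one
        let S : Subring F :=
          { carrier := {x | ∀ z y, B (x * z) y = B z (x * y)}
            one_mem' := fun z y => by rw [one_mul, one_mul]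
            mul_mem' := fun {u v} hu hv z y => by rw [mul_assoc, hu, hv, mul_assoc, mul_left_comm]
            add_mem' := fun {u v} hu hv z y => by
              rw [add_mul, map_add B, AddMonoidHom.add_apply, hu, hv, add_mul, map_add]
            zero_mem' := fun z y => by rw [zero_mul, map_zero B, AddMonoidHom.zero_apply, zero_mul, map_zero]
            neg_mem' := fun {u} hu z y => by rw [neg_mul, map_neg B, AddMonoidHom.neg_apply, hu, neg_mul, map_neg] }
        have hS : x ∈ S := by
          have : S = ⊤ := top_le_iff.1 (D.closure_eq_top ▸ Subring.closure_le.2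
            (Set.singleton_subset_iff.2 fun z y => by rw [hsw, hωm, inv_neg_one]))
          rw [this]; trivial
        let K : AddSubgroup F := (B 1).ker
        have hK : K = ⊤ := by
          refine D.eq_top_of_invariant K (fun u hu => ?_) (x := 1) (halt 1) one_ne_zero
          show B 1 (ω * u) = 0
          rw [hωm, neg_one_mul, map_neg, neg_eq_zero]
          exact hu
        have h2 := hS 1 y
        rw [mul_one] at h2
        rw [h2]
        exact (hK ▸ AddSubgroup.mem_top _ : x * y ∈ K)
      · -- `ω⁻¹` is not a root of the minimal polynomial of `ω`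
        letI : Algebra (ZMod p) F := ZMod.algebra F p
        have hint : IsIntegral (ZMod p) ω := IsIntegral.of_finite (ZMod p) ω
        set g := minpoly (ZMod p) ω with hg
        have hR : ∀ (f : Polynomial (ZMod p)) (z y : F),
            B (Polynomial.aeval ω f * z) y = B z (Polynomial.aeval ω⁻¹ f * y) := by
          intro f
          induction f using Polynomial.induction_on' with
          | add f g hf hg =>
            intro z y
            rw [map_add, map_add, add_mul, map_add B, AddMonoidHom.add_apply, hf, hg, add_mul, map_add]
          | monomial n c =>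
            intro z y
            rw [Polynomial.aeval_monomial, Polynomial.aeval_monomial]
            have hn : ∀ z y, B (ω ^ n * z) y = B z (ω⁻¹ ^ n * y) := by
              induction n with
              | zero => intro z y; simp
              | succ n ih => intro z y; rw [pow_succ', pow_succ, mul_assoc, hsw, ih, mul_assoc]
            obtain ⟨k, rfl⟩ := ZMod.natCast_zmod_surjective c
            rw [map_natCast, mul_assoc, mul_assoc, ← nsmul_eq_mul, ← nsmul_eq_mul, map_nsmul B,
              AddMonoidHom.nsmul_apply, hn, map_nsmul]
        have hne : Polynomial.aeval ω⁻¹ g ≠ 0 := by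
          intro hroot
          have hpow : ∀ i : ℕ, Polynomial.aeval (ω ^ p ^ i) g = 0 := by
            intro i
            induction i with
            | zero => simp [hg, minpoly.aeval]
            | succ i ih =>
              haveI := Fintype.ofFinite F
              have h := Polynomial.aeval_algHom_apply (FiniteField.frobeniusAlgHom (ZMod p) F) (ω ^ p ^ i) g
              rw [ih, map_zero] at h
              rw [pow_succ, pow_mul]
              simpa [ZMod.card] using h
          have hdeg : g.natDegree ≤ a := by
            refine (minpoly.natDegree_le ω).trans ?_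
            have h := Module.natCard_eq_pow_finrank (K := ZMod p) (V := F)
            rw [D.card, Nat.card_zmod] at h
            exact (Nat.pow_right_injective D.hp.two_le h).ge
          have hinj : Set.InjOn (fun i => ω ^ p ^ i) (Finset.range a : Set ℕ) := by
            intro i hi j hj hij
            rw [Finset.coe_range, Set.mem_Iio] at hi hj
            have h := (orderOf_pos_iff.1 (D.ord.symm ▸ D.hq.pos)).pow_eq_pow_iff_modEq.1 (hij : ω ^ p ^ i = ω ^ p ^ j)
            rw [D.ord, ← ZMod.natCast_eq_natCast_iff, Nat.cast_pow, Nat.cast_pow] at h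
            refine pow_injOn_Iio_orderOf ?_ ?_ h <;> rw [← D.ha] <;> assumption
          have hg0 : g ≠ 0 := minpoly.ne_zero hint
          have hsub : ((Finset.range a).image fun i => ω ^ p ^ i) ⊆ (g.map (algebraMap (ZMod p) F)).roots.toFinset := by
            intro u hu
            obtain ⟨i, -, rfl⟩ := Finset.mem_image.1 hu
            rw [Multiset.mem_toFinset, Polynomial.mem_roots (Polynomial.map_ne_zero hg0), Polynomial.IsRoot.def,
              Polynomial.eval_map_algebraMap]
            exact hpow i
          have hc : (g.map (algebraMap (ZMod p) F)).roots.toFinset.card ≤ ((Finset.range a).image fun i => ω ^ p ^ i).card := by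
            rw [Finset.card_image_of_injOn hinj, Finset.card_range]
            exact (Multiset.toFinset_card_le _).trans ((Polynomial.card_roots' _).trans
              (Polynomial.natDegree_map_le.trans hdeg))
          have heq := Finset.eq_of_subset_of_card_le hsub hc
          have hmem : ω⁻¹ ∈ (g.map (algebraMap (ZMod p) F)).roots.toFinset := by
            rw [Multiset.mem_toFinset, Polynomial.mem_roots (Polynomial.map_ne_zero hg0), Polynomial.IsRoot.def,
              Polynomial.eval_map_algebraMap]
            exact hroot
          rw [← heq] at hmem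
          obtain ⟨i, hi, hie⟩ := Finset.mem_image.1 hmem
          rw [Finset.mem_range] at hi
          have h1 : ω ^ (p ^ i + 1) = 1 := by rw [pow_succ, hie, inv_mul_cancel₀ hω0]
          have h2 : ((p ^ i + 1 : ℕ) : ZMod q) = 0 := (ZMod.natCast_eq_zero_iff _ _).2 (D.ord ▸ orderOf_dvd_of_pow_eq_one h1)
          rw [Nat.cast_add, Nat.cast_pow, Nat.cast_one, add_eq_zero_iff_eq_neg] at h2
          have h3 : a ∣ i + i := by
            rw [D.ha]; exact orderOf_dvd_of_pow_eq_one (by rw [pow_add, h2, neg_one_mul, neg_neg])
          have h4 : i = 0 := by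
            obtain ⟨k, hk⟩ := h3
            have : k = 0 ∨ k = 1 := by
              rcases k with _ | _ | k
              · left; rfl
              · right; rfl
              · exfalso
                have : a * 2 ≤ a * (k + 1 + 1) := Nat.mul_le_mul_left a (by omega)
                omega
            rcases this with rfl | rfl <;> omega
          rw [h4, pow_zero, eq_neg_iff_add_eq_zero, one_add_one_eq_two] at h2
          exact hq2 ((Nat.prime_dvd_prime_iff_eq D.hq Nat.prime_two).1 ((ZMod.natCast_eq_zero_iff 2 q).1 h2))
        have h := hR g x (y / Polynomial.aeval ω⁻¹ g)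
        rw [hg, minpoly.aeval, ← hg, zero_mul, map_zero B, AddMonoidHom.zero_apply, mul_div_cancel₀ _ hne] at h
        exact h.symm
    · have : (0 : F →+ H).range = ⊥ := AddMonoidHom.range_eq_bot_iff.2 rfl
      rw [this, AddSubgroup.card_bot]
      exact Nat.one_le_pow _ _ D.hp.pos

/-- The cocycle of the universal group. -/
theorem exists_cocycle (D : FData p q a F ω) :
    ∃ (Z : AddSubgroup F) (γ : F →+ F →+ Z), Nat.card Z = p ^ half a ∧
      (∀ x y, γ (ω * x) (ω * y) = γ x y) ∧
      AddSubgroup.closure (Set.range fun r : F × F => γ r.1 r.2 - γ r.2 r.1) = ⊤ := by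
  classical
  by_cases hev : a % 2 = 0
  · obtain ⟨τ, hτω, hττ, hfix, -, hrange, u₀, hu₀⟩ := D.exists_conj hev
    let Z : AddSubgroup F := (RingHom.eqLocus τ (RingHom.id F)).toAddSubgroup
    have hmem : ∀ x y, u₀ * (τ x * y) + τ (u₀ * (τ x * y)) ∈ Z := fun x y => by
      show τ _ = _
      rw [map_add, hττ, add_comm]
      rfl
    let γ : F →+ F →+ Z := AddMonoidHom.mk' (fun x => AddMonoidHom.mk' (fun y => ⟨_, hmem x y⟩)
        fun y y' => Subtype.ext (by simp [mul_add, map_add]; ring))
      fun x x' => by ext y; simp [map_add, add_mul, mul_add]; ring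
    have hγ : ∀ x y, ((γ x y : Z) : F) = u₀ * (τ x * y) + τ (u₀ * (τ x * y)) := fun x y => rfl
    refine ⟨Z, γ, by rw [half, if_neg (by omega)]; exact hfix, fun x y => Subtype.ext ?_, ?_⟩
    · have h : τ (ω * x) * (ω * y) = τ x * y := by
        rw [map_mul, hτω]
        field_simp [D.ne_zero]
      rw [hγ, hγ, h]
    · let k : F →+ Z := γ 1 - AddMonoidHom.mk' (fun y => γ y 1) (fun y y' => by rw [map_add, AddMonoidHom.add_apply])
      have hk : ∀ y, ((k y : Z) : F) = (u₀ - τ u₀) * (y - τ y) := fun y => by
        have : ((k y : Z) : F) = ((γ 1 y : Z) : F) - ((γ y 1 : Z) : F) := rfl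
        rw [this, hγ, hγ]
        simp only [map_mul, map_one, one_mul, mul_one, hττ]
        ring
      have hks : Function.Surjective k := by
        let f := AddMonoidHom.id F - τ.toAddMonoidHom
        let m : f.range → Z := fun w => ⟨(u₀ - τ u₀) * (w : F), by
          obtain ⟨v, hv⟩ := w.2
          show τ _ = _
          rw [← hv]
          simp [f, map_sub, hττ]
          ring⟩
        have hm : Function.Injective m := fun w w' h => Subtype.ext
          (mul_left_cancel₀ (sub_ne_zero.2 fun e => hu₀ e.symm) (congrArg Subtype.val h :))
        intro z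
        have hc : Nat.card f.range = Nat.card Z := hrange.trans hfix.symm
        obtain ⟨w, hw⟩ := ((Nat.bijective_iff_injective_and_card m).2 ⟨hm, hc⟩).2 z
        obtain ⟨v, hv⟩ := w.2
        refine ⟨v, Subtype.ext ?_⟩
        rw [hk, ← hw]
        show _ = (u₀ - τ u₀) * (w : F)
        rw [← hv]
        rfl
      refine eq_top_iff.2 fun z _ => ?_
      obtain ⟨y, rfl⟩ := hks z
      exact AddSubgroup.subset_closure ⟨(1, y), rfl⟩
  · refine ⟨⊥, 0, ?_, fun x y => rfl, Subsingleton.elim _ _⟩
    rw [AddSubgroup.card_bot, half, if_pos (by omega), pow_zero]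

end CfsgLib.SchmidtCover.FData
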