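import Cfsg.Prelude.Def_Transfer
import Cfsg.Agent.SchmidtCover.Pairing
import Cfsg.Agent.ZJ.Fpf

/-!
The universal minimal non-`p`-nilpotent group: a central extension of the field by a cyclic group.
-/

set_option autoImplicit false
set_option linter.style.haveILetI false

open scoped commutatorElement

namespace CfsgLib.SchmidtCover

variable {F Z : Type*} [AddCommGroup F] [AddCommGroup Z]

/-- The central extension of `F` by `Z` with a biadditive cocycle. -/
@[ext]
structure CExt (γ : F →+ F →+ Z) where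
  /-- the component in `F` -/
  fst : F
  /-- the central component -/
  snd : Z

namespace CExt

variable {γ : F →+ F →+ Z}

instance : Group (CExt γ) where
  mul u v := ⟨u.fst + v.fst, u.snd + v.snd + γ u.fst v.fst⟩
  one := ⟨0, 0⟩
  inv u := ⟨-u.fst, -u.snd + γ u.fst u.fst⟩
  mul_assoc u v w := by
    ext
    · exact add_assoc _ _ _
    · show u.snd + v.snd + γ u.fst v.fst + w.snd + γ (u.fst + v.fst) w.fst
        = u.snd + (v.snd + w.snd + γ v.fst w.fst) + γ u.fst (v.fst + w.fst)
      rw [map_add γ, AddMonoidHom.add_apply, map_add]; abel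
  one_mul u := by
    ext
    · exact zero_add _
    · show 0 + u.snd + γ 0 u.fst = u.snd
      simp
  mul_one u := by
    ext
    · exact add_zero _
    · show u.snd + 0 + γ u.fst 0 = u.snd
      simp
  inv_mul_cancel u := by
    ext
    · exact neg_add_cancel _
    · show -u.snd + γ u.fst u.fst + u.snd + γ (-u.fst) u.fst = 0
      simp

@[simp] theorem mul_fst (u v : CExt γ) : (u * v).fst = u.fst + v.fst := rfl
@[simp] theorem mul_snd (u v : CExt γ) : (u * v).snd = u.snd + v.snd + γ u.fst v.fst := rfl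
@[simp] theorem one_fst : (1 : CExt γ).fst = 0 := rfl
@[simp] theorem one_snd : (1 : CExt γ).snd = 0 := rfl
@[simp] theorem inv_fst (u : CExt γ) : u⁻¹.fst = -u.fst := rfl
@[simp] theorem inv_snd (u : CExt γ) : u⁻¹.snd = -u.snd + γ u.fst u.fst := rfl

instance [Finite F] [Finite Z] : Finite (CExt γ) :=
  Finite.of_injective (fun u : CExt γ => (u.fst, u.snd)) fun u v h => CExt.ext (congrArg Prod.fst h) (congrArg Prod.snd h)

theorem card_eq : Nat.card (CExt γ) = Nat.card F * Nat.card Z := by
  rw [← Nat.card_prod]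
  exact Nat.card_congr ⟨fun u => (u.fst, u.snd), fun r => ⟨r.1, r.2⟩, fun _ => rfl, fun _ => rfl⟩

/-- The projection to `F`. -/
def proj (γ : F →+ F →+ Z) : CExt γ →* Multiplicative F where
  toFun u := Multiplicative.ofAdd u.fst
  map_one' := rfl
  map_mul' _ _ := rfl

theorem comm_eq (u v : CExt γ) : ⁅u, v⁆ = ⟨0, γ u.fst v.fst - γ v.fst u.fst⟩ := by
  ext
  · simp [commutatorElement_def]
  · simp [commutatorElement_def]; abel

theorem mem_center {u : CExt γ} (h : u.fst = 0) : u ∈ Subgroup.center (CExt γ) :=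
  Subgroup.mem_center_iff.2 fun v => by ext <;> simp [h] <;> abel

/-- A subgroup meeting every fibre is everything, provided commutators fill the centre. -/
theorem eq_top_of_fst (hcl : AddSubgroup.closure (Set.range fun r : F × F => γ r.1 r.2 - γ r.2 r.1) = ⊤)
    {K : Subgroup (CExt γ)} (hK : ∀ x : F, ∃ z, (⟨x, z⟩ : CExt γ) ∈ K) : K = ⊤ := by
  let U : AddSubgroup Z :=
    { carrier := {z | (⟨0, z⟩ : CExt γ) ∈ K}
      zero_mem' := K.one_mem
      add_mem' := fun {y z} hy hz => by
        have h : (⟨0, y⟩ : CExt γ) * ⟨0, z⟩ = ⟨0, y + z⟩ := by ext <;> simp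
        show (⟨0, y + z⟩ : CExt γ) ∈ K
        exact h ▸ K.mul_mem hy hz
      neg_mem' := fun {z} hz => by
        have h : (⟨0, z⟩ : CExt γ)⁻¹ = ⟨0, -z⟩ := by ext <;> simp
        show (⟨0, -z⟩ : CExt γ) ∈ K
        exact h ▸ K.inv_mem hz }
  have hU : U = ⊤ := by
    rw [eq_top_iff, ← hcl, AddSubgroup.closure_le]
    rintro _ ⟨⟨x, y⟩, rfl⟩
    obtain ⟨z, hz⟩ := hK x
    obtain ⟨z', hz'⟩ := hK y
    have := comm_eq (⟨x, z⟩ : CExt γ) ⟨y, z'⟩
    show (⟨0, γ x y - γ y x⟩ : CExt γ) ∈ K
    rw [← this, commutatorElement_def]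
    exact K.mul_mem (K.mul_mem (K.mul_mem hz hz') (K.inv_mem hz)) (K.inv_mem hz')
  refine eq_top_iff.2 fun u _ => ?_
  obtain ⟨z, hz⟩ := hK u.fst
  have h : (⟨0, u.snd - z⟩ : CExt γ) ∈ K := (hU ▸ AddSubgroup.mem_top _ : u.snd - z ∈ U)
  have e : (⟨0, u.snd - z⟩ : CExt γ) * ⟨u.fst, z⟩ = u := by ext <;> simp
  exact e ▸ K.mul_mem h hz

end CExt

section Field

variable {p q a : ℕ} {K : Type*} [Field K] [Finite K] {ω : K} {W : AddSubgroup K} {δ : K →+ K →+ W}

/-- Multiplication of the first component by `ω`. -/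
def rot (D : FData p q a K ω) (hinv : ∀ x y, δ (ω * x) (ω * y) = δ x y) : MulAut (CExt δ) where
  toFun u := ⟨ω * u.fst, u.snd⟩
  invFun u := ⟨ω⁻¹ * u.fst, u.snd⟩
  left_inv u := by ext <;> simp [← mul_assoc, inv_mul_cancel₀ D.ne_zero]
  right_inv u := by ext <;> simp [← mul_assoc, mul_inv_cancel₀ D.ne_zero]
  map_mul' u v := by ext <;> simp [mul_add, hinv]

theorem rot_pow (D : FData p q a K ω) (hinv : ∀ x y, δ (ω * x) (ω * y) = δ x y) (i : ℕ) (u : CExt δ) :
    (rot D hinv ^ i) u = ⟨ω ^ i * u.fst, u.snd⟩ := by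
  induction i with
  | zero => simp
  | succ i ih =>
    rw [pow_succ', MulAut.mul_apply, ih]
    ext
    · show ω * (ω ^ i * u.fst) = ω ^ (i + 1) * u.fst
      ring
    · rfl

theorem rot_pow_eq_one (D : FData p q a K ω) (hinv : ∀ x y, δ (ω * x) (ω * y) = δ x y) {i : ℕ} (h : q ∣ i) :
    rot D hinv ^ i = 1 := by
  refine MulEquiv.ext fun u => ?_
  obtain ⟨k, rfl⟩ := h
  rw [rot_pow, pow_mul, ← D.ord, pow_orderOf_eq_one, one_pow, one_mul, MulAut.one_apply]

/-- The homomorphism from the cyclic group of order `m` sending the generator to `A`. -/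
def cycHom {M : Type*} [Group M] (m : ℕ) (A : M) (h : A ^ m = 1) : Multiplicative (ZMod m) →* M :=
  (ZMod.lift m ⟨zmultiplesHom (Additive M) (Additive.ofMul A), by
    rw [zmultiplesHom_apply, natCast_zsmul, ← ofMul_pow, h, ofMul_one]⟩).toMultiplicativeLeft

theorem cycHom_natCast {M : Type*} [Group M] (m : ℕ) (A : M) (h : A ^ m = 1) (i : ℕ) :
    cycHom m A h (Multiplicative.ofAdd (i : ZMod m)) = A ^ i := by
  show Additive.toMul (ZMod.lift m _ ((i : ZMod m))) = A ^ i
  rw [← Int.cast_natCast (R := ZMod m) i, ZMod.lift_coe, zmultiplesHom_apply, natCast_zsmul, toMul_nsmul, toMul_ofMul]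

/-- The universal group. -/
abbrev Model (D : FData p q a K ω) (hinv : ∀ x y, δ (ω * x) (ω * y) = δ x y) {m : ℕ} (hm : q ∣ m) :=
  SemidirectProduct (CExt δ) (Multiplicative (ZMod m)) (cycHom m (rot D hinv) (rot_pow_eq_one D hinv hm))

variable (D : FData p q a K ω) (hinv : ∀ x y, δ (ω * x) (ω * y) = δ x y)

theorem center_of_fst {m : ℕ} [NeZero m] (hm : q ∣ m) {u : CExt δ} (h : u.fst = 0) :
    (SemidirectProduct.inl u : Model D hinv hm) ∈ Subgroup.center (Model D hinv hm) := by
  refine Subgroup.mem_center_iff.2 fun g => ?_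
  obtain ⟨i, hi⟩ := ZMod.natCast_zmod_surjective g.right.toAdd
  have hg : g.right = Multiplicative.ofAdd (i : ZMod m) := by rw [hi]; rfl
  ext1
  · rw [SemidirectProduct.mul_left, SemidirectProduct.mul_left, SemidirectProduct.left_inl,
      SemidirectProduct.right_inl, map_one, MulAut.one_apply, hg, cycHom_natCast, rot_pow, h, mul_zero]
    have : (⟨0, u.snd⟩ : CExt δ) = u := CExt.ext h.symm rfl
    rw [this]
    exact Subgroup.mem_center_iff.1 (CExt.mem_center h) g.left
  · simp

theorem card_model {r : ℕ} (hr : 1 ≤ r) (hW : Nat.card W = p ^ half a) :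
    Nat.card (Model D hinv (dvd_pow_self q (by omega : r ≠ 0))) = p ^ (a + half a) * q ^ r := by
  rw [Nat.card_congr SemidirectProduct.equivProd, Nat.card_prod, CExt.card_eq, D.card, hW, ← pow_add,
    Nat.card_congr Multiplicative.toAdd, Nat.card_zmod]

theorem model_not_complement {r : ℕ} (hr : 1 ≤ r) (hW : Nat.card W = p ^ half a) :
    ¬ Cfsg.HasNormalPComplement p (Model D hinv (dvd_pow_self q (by omega : r ≠ 0))) := by
  haveI := Fact.mk D.hp
  haveI : NeZero (q ^ r) := ⟨pow_ne_zero _ D.hq.ne_zero⟩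
  haveI : Finite (Model D hinv (dvd_pow_self q (by omega : r ≠ 0))) := Finite.of_equiv _ SemidirectProduct.equivProd.symm
  rintro ⟨P, N, hN, hc⟩
  have hcop : (q ^ r).Coprime (p ^ (a + half a)) := Nat.Coprime.pow _ _ ((Nat.coprime_primes D.hq D.hp).2 D.pne.symm)
  have hP : Nat.card (P : Subgroup (Model D hinv (dvd_pow_self q (by omega : r ≠ 0)))) = p ^ (a + half a) := by
    rw [P.card_eq_multiplicity, card_model D hinv hr hW,
      Nat.factorization_mul (pow_ne_zero _ D.hp.ne_zero) (pow_ne_zero _ D.hq.ne_zero), Finsupp.add_apply,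
      D.hp.factorization_pow, D.hq.factorization_pow, Finsupp.single_eq_same, Finsupp.single_eq_of_ne D.pne,
      add_zero]
  have hNc : Nat.card N = q ^ r := by
    have h := hc.card_mul
    rw [hP, card_model D hinv hr hW, mul_comm _ (q ^ r)] at h
    exact Nat.eq_of_mul_eq_mul_right (pow_pos D.hp.pos _) h
  haveI := hN
  set g : Model D hinv (dvd_pow_self q (by omega : r ≠ 0)) :=
    SemidirectProduct.inr (Multiplicative.ofAdd ((1 : ℕ) : ZMod (q ^ r))) with hg
  have hgN : g ∈ N := by
    rw [← QuotientGroup.eq_one_iff (N := N), ← orderOf_eq_one_iff]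
    refine Nat.eq_one_of_dvd_coprimes hcop ((orderOf_map_dvd (QuotientGroup.mk' N) g).trans ?_) ?_
    · refine (orderOf_map_dvd _ _).trans ((orderOf_dvd_natCard _).trans ?_)
      rw [Nat.card_congr Multiplicative.toAdd, Nat.card_zmod]
    · refine (orderOf_dvd_natCard _).trans ?_
      have h := N.card_mul_index
      rw [hNc, card_model D hinv hr hW, mul_comm (p ^ _) (q ^ r)] at h
      rw [← Subgroup.index_eq_card, Nat.eq_of_mul_eq_mul_left (pow_pos D.hq.pos _) h]
  set u : CExt δ := ⟨1, 0⟩ with hu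
  have hcomm : ⁅g, SemidirectProduct.inl u⁆ ∈ N := by
    rw [commutatorElement_def, mul_assoc g, mul_assoc]
    refine N.mul_mem hgN ?_
    exact hN.conj_mem _ (N.inv_mem hgN) _
  have e : ⁅g, (SemidirectProduct.inl u : Model D hinv (dvd_pow_self q (by omega : r ≠ 0)))⁆
      = SemidirectProduct.inl ((rot D hinv) u * u⁻¹) := by
    rw [map_mul, map_inv, commutatorElement_def, hg, ← map_inv SemidirectProduct.inr, ← SemidirectProduct.inl_aut,
      cycHom_natCast, pow_one]
  rw [e] at hcomm
  have h1 : (SemidirectProduct.inl ((rot D hinv) u * u⁻¹) : Model D hinv (dvd_pow_self q (by omega : r ≠ 0))) = 1 := by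
    rw [← orderOf_eq_one_iff]
    refine Nat.eq_one_of_dvd_coprimes hcop ?_ ((orderOf_map_dvd _ _).trans ?_)
    · exact (Subgroup.orderOf_dvd_natCard _ hcomm).trans (dvd_of_eq hNc)
    · refine (orderOf_dvd_natCard _).trans ?_
      rw [CExt.card_eq, D.card, hW, pow_add]
  rw [map_eq_one_iff _ SemidirectProduct.inl_injective] at h1
  have h2 := congrArg CExt.fst h1
  simp [hu, rot, sub_eq_zero, ← sub_eq_add_neg] at h2
  exact D.ne_one h2

theorem model_subgroup_complement {r : ℕ} (hr : 1 ≤ r) (hW : Nat.card W = p ^ half a)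
    (hcl : AddSubgroup.closure (Set.range fun s : K × K => δ s.1 s.2 - δ s.2 s.1) = ⊤)
    (L : Subgroup (Model D hinv (dvd_pow_self q (by omega : r ≠ 0)))) (hL : L ≠ ⊤) :
    Cfsg.HasNormalPComplement p L := by
  haveI := Fact.mk D.hp
  haveI : NeZero (q ^ r) := ⟨pow_ne_zero _ D.hq.ne_zero⟩
  haveI : Finite (Model D hinv (dvd_pow_self q (by omega : r ≠ 0))) := Finite.of_equiv _ SemidirectProduct.equivProd.symm
  have hqq : q ∣ q ^ r := dvd_pow_self q (by omega)
  suffices Group.IsNilpotent L by
    haveI := this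
    exact CfsgLib.ZJ.hasNormalPComplement_of_isNilpotent p
  by_cases hgen : ∃ g ∈ L, ¬ q ∣ g.right.toAdd.val
  · obtain ⟨g₀, hg₀, hnd⟩ := hgen
    -- some element lies over the generator
    obtain ⟨g, hg, hgr⟩ : ∃ g ∈ L, g.right = Multiplicative.ofAdd ((1 : ℕ) : ZMod (q ^ r)) := by
      have hunit : IsUnit g₀.right.toAdd := by
        rw [← ZMod.natCast_zmod_val g₀.right.toAdd, ZMod.isUnit_iff_coprime]
        exact Nat.Coprime.pow_right _ ((D.hq.coprime_iff_not_dvd.2 hnd).symm)
      obtain ⟨j, hj⟩ := hunit.exists_left_inv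
      refine ⟨g₀ ^ j.val, L.pow_mem hg₀ _, ?_⟩
      rw [← SemidirectProduct.rightHom_eq_right, map_pow]
      apply Multiplicative.toAdd.injective
      rw [toAdd_pow, nsmul_eq_mul, ZMod.natCast_zmod_val, Nat.cast_one]
      exact hj
    let U : AddSubgroup K :=
      { carrier := {x | ∃ z, (SemidirectProduct.inl (⟨x, z⟩ : CExt δ) : Model D hinv hqq) ∈ L}
        zero_mem' := ⟨0, by
          rw [show (⟨0, 0⟩ : CExt δ) = 1 from rfl, map_one]; exact L.one_mem⟩
        add_mem' := fun {x y} ⟨z, hz⟩ ⟨z', hz'⟩ => ⟨z + z' + δ x y, by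
          have h := L.mul_mem hz hz'
          rw [← map_mul] at h
          exact h⟩
        neg_mem' := fun {x} ⟨z, hz⟩ => ⟨-z + δ x x, by
          have h := L.inv_mem hz
          rw [← map_inv] at h
          exact h⟩ }
    by_cases hU : ∃ x ∈ U, x ≠ 0
    · exfalso
      obtain ⟨x, hx, hx0⟩ := hU
      have hUtop : U = ⊤ := by
        refine D.eq_top_of_invariant U (fun y hy => ?_) hx hx0
        obtain ⟨z, hz⟩ := hy
        have h := L.mul_mem (L.mul_mem hg hz) (L.inv_mem hg)
        have hgd : g = SemidirectProduct.inl g.left * SemidirectProduct.inr g.right :=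
          (SemidirectProduct.inl_left_mul_inr_right g).symm
        rw [hgd, mul_inv_rev, hgr] at h
        rw [show ∀ A B C E : Model D hinv hqq, A * B * C * (B⁻¹ * E) = A * (B * C * B⁻¹) * E from
          fun A B C E => by group, ← map_inv SemidirectProduct.inr, ← SemidirectProduct.inl_aut, cycHom_natCast, pow_one, ← map_inv, ← map_mul,
          ← map_mul] at h
        exact ⟨_, by
          convert h using 3
          show ω * y = g.left.fst + (rot D hinv ⟨y, z⟩).fst + -g.left.fst
          show ω * y = g.left.fst + ω * y + -g.left.fst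
          abel⟩
      have hP : L.comap SemidirectProduct.inl = ⊤ :=
        CExt.eq_top_of_fst hcl fun y => (hUtop ▸ AddSubgroup.mem_top y : y ∈ U)
      refine hL (eq_top_iff.2 fun h _ => ?_)
      obtain ⟨i, hi⟩ := ZMod.natCast_zmod_surjective h.right.toAdd
      have hr' : (h * (g ^ i)⁻¹).right = 1 := by
        rw [← SemidirectProduct.rightHom_eq_right, map_mul, map_inv, map_pow, SemidirectProduct.rightHom_eq_right, hgr, ← ofAdd_nsmul, nsmul_eq_mul, Nat.cast_one, mul_one, hi]
        exact mul_inv_cancel _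
      have hm : h * (g ^ i)⁻¹ ∈ L := by
        have e : h * (g ^ i)⁻¹ = SemidirectProduct.inl (h * (g ^ i)⁻¹).left := by ext1 <;> simp [hr']
        rw [e]
        exact (hP ▸ Subgroup.mem_top _ : (h * (g ^ i)⁻¹).left ∈ L.comap SemidirectProduct.inl)
      simpa using L.mul_mem hm (L.pow_mem hg i)
    · push Not at hU
      have hc : ∀ h ∈ L, ∃ (i : ℕ) (z : Model D hinv hqq), z ∈ Subgroup.center (Model D hinv hqq) ∧ h = z * g ^ i := by
        intro h hh
        obtain ⟨i, hi⟩ := ZMod.natCast_zmod_surjective h.right.toAdd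
        have hr' : (h * (g ^ i)⁻¹).right = 1 := by
          rw [← SemidirectProduct.rightHom_eq_right, map_mul, map_inv, map_pow,
            SemidirectProduct.rightHom_eq_right, hgr, ← ofAdd_nsmul, nsmul_eq_mul, Nat.cast_one, mul_one, hi]
          exact mul_inv_cancel _
        have e : h * (g ^ i)⁻¹ = SemidirectProduct.inl (h * (g ^ i)⁻¹).left := by ext1 <;> simp [hr']
        refine ⟨i, h * (g ^ i)⁻¹, ?_, by rw [inv_mul_cancel_right]⟩
        rw [e]
        refine center_of_fst D hinv hqq (hU _ ⟨(h * (g ^ i)⁻¹).left.snd, ?_⟩)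
        show SemidirectProduct.inl (h * (g ^ i)⁻¹).left ∈ L
        rw [← e]
        exact L.mul_mem hh (L.inv_mem (L.pow_mem hg i))
      haveI : IsMulCommutative L := ⟨⟨fun u v => Subtype.ext (by
        obtain ⟨i, z, hz, hu⟩ := hc u u.2
        obtain ⟨j, w, hw, hv⟩ := hc v v.2
        show (u : Model D hinv hqq) * v = v * u
        rw [hu, hv]
        exact ((show Commute z (w * g ^ j) from (Subgroup.mem_center_iff.1 hz _).symm).mul_left
          ((show Commute (g ^ i) w from Subgroup.mem_center_iff.1 hw _).mul_right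
            ((Commute.refl g).pow_pow i j))).eq)⟩⟩
      exact ⟨⟨1, by
        rw [Subgroup.upperCentralSeries_one, eq_top_iff]
        exact fun x _ => Subgroup.mem_center_iff.2 fun y => Subtype.ext (setLike_mul_comm (s := L) y.2 x.2)⟩⟩
  · push Not at hgen
    have hA : ∀ h ∈ L, ∀ u : CExt δ,
        cycHom (q ^ r) (rot D hinv) (rot_pow_eq_one D hinv hqq) h.right u = u := by
      intro h hh u
      have e : h.right = Multiplicative.ofAdd ((h.right.toAdd.val : ℕ) : ZMod (q ^ r)) := by
        rw [ZMod.natCast_zmod_val]; rfl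
      rw [e, cycHom_natCast, rot_pow_eq_one D hinv (hgen h hh), MulAut.one_apply]
    let f : L →* CExt δ × Multiplicative (ZMod (q ^ r)) :=
      { toFun := fun h => ((h : Model D hinv hqq).left, (h : Model D hinv hqq).right)
        map_one' := rfl
        map_mul' := fun h k => by
          refine Prod.ext ?_ rfl
          show ((h : Model D hinv hqq) * k).left = _
          rw [SemidirectProduct.mul_left, hA h h.2]
          rfl }
    haveI : Finite (CExt δ) := inferInstance
    have hp2 : IsPGroup p (CExt δ) := IsPGroup.of_card (n := a + half a) (by rw [CExt.card_eq, D.card, hW, pow_add])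
    haveI := hp2.isNilpotent
    haveI : Group.IsNilpotent (CExt δ × Multiplicative (ZMod (q ^ r))) := inferInstance
    have hf : Function.Injective f := fun h k e => Subtype.ext
      (SemidirectProduct.ext (congrArg Prod.fst e :) (congrArg Prod.snd e :))
    exact Subgroup.isNilpotent_of_ker_le_center f (by rw [(MonoidHom.ker_eq_bot_iff f).2 hf]; exact bot_le)

end Field

end CfsgLib.SchmidtCover
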